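/-
The Sylow `p`-subgroup of `Qd(p)`.
-/
import Cfsg.Agent.S2231
import Cfsg.Prelude.Def_PLocal
import Cfsg.Prelude.Def_Transfer
import Cfsg.Agent.Lib.LocalEven.SylowAux
import Cfsg.Agent.Lib.LocalEven.Frattini

set_option autoImplicit false
set_option linter.unusedSimpArgs false

namespace Cfsg.Agent.Qd

open Cfsg.Agent.S2231 (unitri unitri_isPGroup)
open scoped commutatorElement

variable {p : ℕ} [Fact p.Prime]

local notation "SL3" => Matrix.SpecialLinearGroup (Fin 3) (ZMod p)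

theorem mem_unitri {M : SL3} : M ∈ unitri p ↔
    M.1 0 0 = 1 ∧ M.1 1 1 = 1 ∧ M.1 2 2 = 1 ∧ M.1 1 0 = 0 ∧ M.1 2 0 = 0 ∧ M.1 2 1 = 0 := Iff.rfl

/-- Coordinates of the unitriangular group. -/
def coord (M : ↥(unitri p)) : ZMod p × ZMod p × ZMod p :=
  ((M : SL3).1 0 1, (M : SL3).1 1 2, (M : SL3).1 0 2)

/-- The unitriangular matrix with given coordinates. -/
def mat (a b c : ZMod p) : ↥(unitri p) :=
  ⟨⟨!![1, a, c; 0, 1, b; 0, 0, 1], by simp [Matrix.det_fin_three]⟩,
    ⟨rfl, rfl, rfl, rfl, rfl, rfl⟩⟩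

theorem coord_mat (a b c : ZMod p) : coord (mat a b c) = (a, b, c) := by
  simp [coord, mat]

theorem coord_injective : Function.Injective (coord (p := p)) := by
  rintro ⟨M, hM⟩ ⟨N, hN⟩ h
  obtain ⟨h00, h11, h22, h10, h20, h21⟩ := hM
  obtain ⟨k00, k11, k22, k10, k20, k21⟩ := hN
  simp only [coord, Prod.mk.injEq] at h
  obtain ⟨h1, h2, h3⟩ := h
  ext i j
  fin_cases i <;> fin_cases j <;> simp [*]

theorem card_unitri : Nat.card ↥(unitri p) = p ^ 3 := by
  rw [Nat.card_congr (Equiv.ofBijective _ ⟨coord_injective, fun x => ⟨mat x.1 x.2.1 x.2.2,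
    coord_mat _ _ _⟩⟩), Nat.card_prod, Nat.card_prod, Nat.card_zmod]
  ring

theorem coord_mul (M N : ↥(unitri p)) : coord (M * N) =
    ((coord M).1 + (coord N).1, (coord M).2.1 + (coord N).2.1,
      (coord M).2.2 + (coord N).2.2 + (coord M).1 * (coord N).2.1) := by
  obtain ⟨h00, h11, h22, h10, h20, h21⟩ := mem_unitri.1 M.2
  obtain ⟨k00, k11, k22, k10, k20, k21⟩ := mem_unitri.1 N.2
  simp only [coord, Subgroup.coe_mul, Matrix.SpecialLinearGroup.coe_mul, Matrix.mul_apply,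
    Fin.sum_univ_three, *]
  simp only [Prod.mk.injEq]
  refine ⟨?_, ?_, ?_⟩ <;> ring

theorem mem_center_iff {M : ↥(unitri p)} :
    M ∈ Subgroup.center ↥(unitri p) ↔ (coord M).1 = 0 ∧ (coord M).2.1 = 0 := by
  rw [Subgroup.mem_center_iff]
  constructor
  · intro h
    have h1 := congrArg coord (h (mat 1 0 0))
    have h2 := congrArg coord (h (mat 0 1 0))
    simp only [coord_mul, coord_mat, Prod.mk.injEq] at h1 h2
    exact ⟨by linear_combination (-1 : ZMod p) * h2.2.2, by linear_combination h1.2.2⟩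
  · rintro ⟨h1, h2⟩ N
    apply coord_injective
    simp only [coord_mul, h1, h2, Prod.mk.injEq]
    refine ⟨?_, ?_, ?_⟩ <;> ring

theorem card_center : Nat.card ↥(Subgroup.center ↥(unitri p)) = p := by
  refine (Nat.card_congr (Equiv.ofBijective
    (fun M : ↥(Subgroup.center ↥(unitri p)) => (coord (M : ↥(unitri p))).2.2) ⟨?_, ?_⟩)).trans
    (Nat.card_zmod p)
  · rintro ⟨M, hM⟩ ⟨N, hN⟩ h
    rw [mem_center_iff] at hM hN
    exact Subtype.ext (coord_injective (Prod.ext (hM.1.trans hN.1.symm)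
      (Prod.ext (hM.2.trans hN.2.symm) h)))
  · intro c
    exact ⟨⟨mat 0 0 c, mem_center_iff.2 (by simp [coord_mat])⟩, by simp [coord_mat]⟩

theorem commutator_mem_center (M N : ↥(unitri p)) : ⁅M, N⁆ ∈ Subgroup.center ↥(unitri p) := by
  rw [mem_center_iff]
  have h1 := congrArg coord (show ⁅M, N⁆ * (N * M) = M * N by rw [commutatorElement_def]; group)
  simp only [coord_mul, Prod.mk.injEq] at h1
  exact ⟨by linear_combination h1.1, by linear_combination h1.2.1⟩

theorem pow_p_eq_one (hp : p ≠ 2) (M : ↥(unitri p)) : M ^ p = 1 := by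
  have h : ∀ n : ℕ, 2 * (coord (M ^ n)).2.2 = 2 * (n : ZMod p) * (coord M).2.2 +
      (n : ZMod p) * ((n : ZMod p) - 1) * ((coord M).1 * (coord M).2.1) ∧
      (coord (M ^ n)).1 = (n : ZMod p) * (coord M).1 ∧
      (coord (M ^ n)).2.1 = (n : ZMod p) * (coord M).2.1 := by
    intro n
    induction n with
    | zero => simp [coord]
    | succ n ih =>
      obtain ⟨i1, i2, i3⟩ := ih
      simp only [pow_succ, coord_mul, Nat.cast_add, Nat.cast_one]
      refine ⟨?_, ?_, ?_⟩
      · rw [i2]; linear_combination i1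
      · rw [i2]; ring
      · rw [i3]; ring
  obtain ⟨h1, h2, h3⟩ := h p
  rw [ZMod.natCast_self] at h1 h2 h3
  simp only [zero_mul, mul_zero, zero_add] at h1 h2 h3
  have h20 : (2 : ZMod p) ≠ 0 := by
    intro h0
    have : ((2 : ℕ) : ZMod p) = 0 := by exact_mod_cast h0
    rw [ZMod.natCast_eq_zero_iff] at this
    exact hp ((Nat.prime_dvd_prime_iff_eq Fact.out Nat.prime_two).1 this)
  apply coord_injective
  have h1' := (mul_eq_zero.1 h1).resolve_left h20
  refine Prod.ext ?_ (Prod.ext ?_ ?_) <;> simp [coord] at h1' h2 h3 ⊢ <;> assumption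

theorem isExtraspecial_unitri (hp : p ≠ 2) : Cfsg.IsExtraspecial p ↥(unitri p) := by
  have hpg : IsPGroup p ↥(unitri p) := fun M => ⟨1, by rw [pow_one]; exact pow_p_eq_one hp M⟩
  have hle : Subgroup.center ↥(unitri p) ≤ commutator ↥(unitri p) := by
    intro M hM
    rw [mem_center_iff] at hM
    have : M = ⁅mat (coord M).2.2 0 0, mat 0 1 0⁆ := by
      apply coord_injective
      have h1 := congrArg coord (show ⁅mat (coord M).2.2 0 0, mat 0 1 0⁆ *
          (mat 0 1 0 * mat (coord M).2.2 0 0) = mat (coord M).2.2 0 0 * mat 0 1 0 by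
        rw [commutatorElement_def]; group)
      simp only [coord_mul, coord_mat, Prod.mk.injEq, add_zero, zero_add, mul_zero, zero_mul,
        mul_one] at h1
      obtain ⟨e1, e2, e3⟩ := h1
      refine Prod.ext ?_ (Prod.ext ?_ ?_)
      · rw [hM.1]; linear_combination -e1
      · rw [hM.2]; linear_combination -e2
      · linear_combination (-1 : ZMod p) * e3 + (1 : ZMod p) * e1
    rw [this, commutator_def]
    exact Subgroup.commutator_mem_commutator (Subgroup.mem_top _) (Subgroup.mem_top _)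
  have hcomm : commutator ↥(unitri p) = Subgroup.center ↥(unitri p) := by
    refine le_antisymm ?_ hle
    rw [commutator_def, Subgroup.commutator_le]
    exact fun a _ b _ => commutator_mem_center a b
  refine ⟨⟨hpg, ?_, hcomm⟩, card_center⟩
  refine le_antisymm (LEFrattini.frattini_le commutator_mem_center
    fun M => by rw [pow_p_eq_one hp M]; exact one_mem _) ?_
  rw [← hcomm]
  haveI : Group.IsNilpotent ↥(unitri p) := hpg.isNilpotent
  show _ ≤ frattini ↥(unitri p)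
  rw [frattini, Order.radical]
  refine le_iInf fun K => le_iInf fun hK => ?_
  haveI : K.Normal := Subgroup.NormalizerCondition.normal_of_coatom K
    Group.normalizerCondition_of_isNilpotent hK
  rw [hcomm]
  intro z hz
  -- a central element outside a maximal subgroup would make the group abelian
  by_contra hzK
  have htop : K ⊔ Subgroup.zpowers z = ⊤ := hK.2 _ (left_lt_sup.2 fun h =>
    hzK (h (Subgroup.mem_zpowers z)))
  have habs : (⁅mat (p := p) 1 0 0, mat (p := p) 0 1 0⁆ : ↥(unitri p)) ∈ K := by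
    obtain ⟨k₁, hk₁, z₁, hz₁, e1⟩ := Subgroup.mem_sup_of_normal_left.1
      (htop ▸ Subgroup.mem_top (mat 1 0 0) : mat 1 0 0 ∈ K ⊔ Subgroup.zpowers z)
    obtain ⟨k₂, hk₂, z₂, hz₂, e2⟩ := Subgroup.mem_sup_of_normal_left.1
      (htop ▸ Subgroup.mem_top (mat 0 1 0) : mat 0 1 0 ∈ K ⊔ Subgroup.zpowers z)
    have c₁ := Subgroup.mem_center_iff.1 ((Subgroup.zpowers_le.2 hz) hz₁)
    have c₂ := Subgroup.mem_center_iff.1 ((Subgroup.zpowers_le.2 hz) hz₂)
    have : ⁅mat (p := p) 1 0 0, mat (p := p) 0 1 0⁆ = ⁅k₁, k₂⁆ := by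
      rw [← e1, ← e2, commutatorElement_def, commutatorElement_def]
      calc k₁ * z₁ * (k₂ * z₂) * (k₁ * z₁)⁻¹ * (k₂ * z₂)⁻¹
          = k₁ * (z₁ * k₂) * z₂ * z₁⁻¹ * k₁⁻¹ * (z₂⁻¹ * k₂⁻¹) := by group
        _ = k₁ * k₂ * z₁ * z₂ * z₁⁻¹ * k₁⁻¹ * (z₂⁻¹ * k₂⁻¹) := by rw [← c₁]; group
        _ = k₁ * k₂ * (z₁ * z₂) * z₁⁻¹ * k₁⁻¹ * (z₂⁻¹ * k₂⁻¹) := by group
        _ = k₁ * k₂ * (z₂ * k₁⁻¹) * z₂⁻¹ * k₂⁻¹ := by rw [c₂ z₁]; group
        _ = k₁ * k₂ * k₁⁻¹ * k₂⁻¹ := by rw [← c₂ k₁⁻¹]; group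
    rw [this, commutatorElement_def]
    exact mul_mem (mul_mem (mul_mem hk₁ hk₂) (inv_mem hk₁)) (inv_mem hk₂)
  refine hzK ?_
  obtain ⟨hz1, hz2⟩ := mem_center_iff.1 hz
  have hc := coord_mul (⁅mat (p := p) 1 0 0, mat (p := p) 0 1 0⁆ : ↥(unitri p)) (mat (p := p) 0 1 0 * mat (p := p) 1 0 0)
  rw [show ⁅mat (p := p) 1 0 0, mat (p := p) 0 1 0⁆ * (mat (p := p) 0 1 0 * mat (p := p) 1 0 0) = mat (p := p) 1 0 0 * mat (p := p) 0 1 0 by
    rw [commutatorElement_def (mat (p := p) 1 0 0) (mat (p := p) 0 1 0)]; group] at hc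
  simp only [coord_mul, coord_mat, Prod.mk.injEq, add_zero, zero_add, mul_zero, zero_mul,
    mul_one] at hc
  obtain ⟨e1, e2, e3⟩ := hc
  set w : ↥(unitri p) := ⁅mat (p := p) 1 0 0, mat (p := p) 0 1 0⁆
  have w1 : (coord w).1 = 0 := by linear_combination -e1
  have w2 : (coord w).2.1 = 0 := by linear_combination -e2
  have w3 : (coord w).2.2 = 1 := by rw [w1] at e3; linear_combination -e3
  have hw : ∀ n : ℕ, (coord (w ^ n)) = (0, 0, (n : ZMod p)) := by
    intro n
    induction n with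
    | zero => simp [coord]
    | succ n ih => rw [pow_succ, coord_mul, ih, w1, w2, w3]; simp
  have : z = w ^ ((coord z).2.2).val := by
    apply coord_injective
    rw [hw, ZMod.natCast_zmod_val]
    exact Prod.ext hz1 (Prod.ext hz2 rfl)
  rw [this]
  exact pow_mem habs _

theorem unitri_le_qd : unitri p ≤ Cfsg.qd p := by
  rintro M ⟨_, _, h22, _, h20, h21⟩
  exact Subgroup.subset_closure ⟨h20, h21, h22⟩

theorem bottom_row {M : SL3} (hM : M ∈ Cfsg.qd p) :
    M.1 2 0 = 0 ∧ M.1 2 1 = 0 ∧ M.1 2 2 = 1 := by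
  induction hM using Subgroup.closure_induction with
  | mem M hM => exact hM
  | one => simp
  | mul a b _ _ ha hb =>
    obtain ⟨a0, a1, a2⟩ := ha
    obtain ⟨b0, b1, b2⟩ := hb
    simp [Matrix.mul_apply, Fin.sum_univ_three, *]
  | inv a _ ha =>
    obtain ⟨a0, a1, a2⟩ := ha
    have h : ∀ j, (a * a⁻¹).1 2 j = (1 : Matrix (Fin 3) (Fin 3) (ZMod p)) 2 j := by
      intro j; rw [mul_inv_cancel]; rfl
    simp only [Matrix.SpecialLinearGroup.coe_mul, Matrix.mul_apply, Fin.sum_univ_three, a0, a1, a2,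
      zero_mul, zero_add, one_mul] at h
    exact ⟨by simpa using h 0, by simpa using h 1, by simpa using h 2⟩

theorem normalizer_pElement {M : SL3} (hM : M ∈ Cfsg.qd p)
    (hN : M ∈ Subgroup.normalizer ((unitri p : Subgroup SL3) : Set SL3))
    {k : ℕ} (hk : M ^ p ^ k = 1) : M ∈ unitri p := by
  obtain ⟨m20, m21, m22⟩ := bottom_row hM
  have hX := (Subgroup.mem_normalizer_iff.1 hN _).1 (mat (1 : ZMod p) 0 0).2
  obtain ⟨N, hNdef⟩ : ∃ N : SL3, N = M * (mat (1 : ZMod p) 0 0 : SL3) * M⁻¹ := ⟨_, rfl⟩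
  rw [← hNdef] at hX
  obtain ⟨n00, n11, n22, n10, n20, n21⟩ := mem_unitri.1 hX
  have e : N * M = M * (mat (1 : ZMod p) 0 0 : SL3) := by rw [hNdef]; group
  have e11 : (N * M).1 1 1 = (M * (mat (1 : ZMod p) 0 0 : SL3)).1 1 1 := by rw [e]
  have x01 : (mat (1 : ZMod p) 0 0 : SL3).1 0 1 = 1 := rfl
  have x11 : (mat (1 : ZMod p) 0 0 : SL3).1 1 1 = 1 := rfl
  have x21 : (mat (1 : ZMod p) 0 0 : SL3).1 2 1 = 0 := rfl
  rw [Matrix.SpecialLinearGroup.coe_mul, Matrix.SpecialLinearGroup.coe_mul, Matrix.mul_apply,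
    Matrix.mul_apply, Fin.sum_univ_three, Fin.sum_univ_three, x01, x11, x21, n10, n11, m21] at e11
  have m10 : M.1 1 0 = 0 := by linear_combination -e11
  -- the diagonal entries are multiplicative
  have hpow : ∀ n : ℕ, (M ^ n).1 1 0 = 0 ∧ (M ^ n).1 2 0 = 0 ∧ (M ^ n).1 2 1 = 0 ∧
      (M ^ n).1 0 0 = M.1 0 0 ^ n ∧ (M ^ n).1 1 1 = M.1 1 1 ^ n := by
    intro n
    induction n with
    | zero => simp
    | succ n ih =>
      obtain ⟨i1, i2, i3, i4, i5⟩ := ih
      rw [pow_succ, Matrix.SpecialLinearGroup.coe_mul, pow_succ (M.1 0 0), pow_succ (M.1 1 1)]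
      simp only [Matrix.mul_apply, Fin.sum_univ_three, i1, i2, i3, i4, i5, m10, m20, m21, mul_zero,
        zero_mul, add_zero, zero_add, true_and, and_self]
  obtain ⟨-, -, -, h4, h5⟩ := hpow (p ^ k)
  rw [hk] at h4 h5
  simp only [Matrix.SpecialLinearGroup.coe_one, Matrix.one_apply_eq, ZMod.pow_card_pow] at h4 h5
  exact mem_unitri.2 ⟨h4.symm, h5.symm, m22, m10, m20, m21⟩

theorem sylow_qd (hp : p ≠ 2) (P : Sylow p ↥(Cfsg.qd p)) : Nonempty (↥P ≃* ↥(unitri p)) := by
  have hU : IsPGroup p ↥((unitri p).subgroupOf (Cfsg.qd p)) :=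
    (unitri_isPGroup p hp).comap_of_injective _ Subtype.coe_injective
  obtain ⟨Q, hQ⟩ := LESylow.exists_sylow_eq hU (fun R hR _ hRN x hx => by
    obtain ⟨k, hk⟩ := hR ⟨x, hx⟩
    have hn := hRN hx
    refine normalizer_pElement x.2 ?_ (congrArg (fun z : ↥R => ((z : ↥(Cfsg.qd p)) : SL3)) hk)
    rw [Subgroup.mem_normalizer_iff]
    intro y
    constructor
    · intro hy
      exact (Subgroup.mem_normalizer_iff.1 hn ⟨y, unitri_le_qd hy⟩).1 hy
    · intro hy
      have hyq : y ∈ Cfsg.qd p := by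
        have := mul_mem (mul_mem (inv_mem x.2) (unitri_le_qd hy)) x.2
        simpa [mul_assoc] using this
      exact (Subgroup.mem_normalizer_iff.1 hn ⟨y, hyq⟩).2 hy)
  exact ⟨(Sylow.equiv P Q).trans ((MulEquiv.subgroupCongr hQ).trans
    (Subgroup.subgroupOfEquivOfLe unitri_le_qd))⟩

theorem map_center_eq {A B : Type*} [Group A] [Group B] (e : A ≃* B) :
    (Subgroup.center A).map e.toMonoidHom = Subgroup.center B := by
  ext b
  rw [Subgroup.mem_map_equiv, Subgroup.mem_center_iff, Subgroup.mem_center_iff]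
  constructor
  · intro h g
    apply e.symm.injective
    rw [map_mul, map_mul, h]
  · intro h g
    apply e.injective
    rw [map_mul, map_mul, e.apply_symm_apply, h]

theorem map_frattini_le {A B : Type*} [Group A] [Group B] (e : A ≃* B) :
    (frattini A).map e.toMonoidHom ≤ frattini B := by
  rw [frattini, frattini, Order.radical, Order.radical]
  refine le_iInf fun K => le_iInf fun hK => ?_
  have h1 : IsCoatom (K.comap e.toMonoidHom) := by
    exact (e.comapSubgroup.isCoatom_iff K).2 hK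
  rw [Subgroup.map_le_iff_le_comap]
  exact (iInf_le _ (K.comap e.toMonoidHom)).trans (iInf_le _ h1)

theorem isExtraspecial_congr {A B : Type*} [Group A] [Group B] (e : A ≃* B)
    (h : Cfsg.IsExtraspecial p B) : Cfsg.IsExtraspecial p A := by
  obtain ⟨⟨h1, h2, h3⟩, h4⟩ := h
  have hi : Function.Injective (Subgroup.map e.toMonoidHom) := Subgroup.map_injective e.injective
  have hf : (frattini A).map e.toMonoidHom = frattini B := by
    refine le_antisymm (map_frattini_le e) fun b hb => ?_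
    exact ⟨e.symm b, map_frattini_le e.symm ⟨b, hb, rfl⟩, e.apply_symm_apply b⟩
  refine ⟨⟨h1.of_injective e.toMonoidHom e.injective, hi ?_, hi ?_⟩, ?_⟩
  · rw [hf, map_center_eq, h2]
  · rw [map_center_eq, commutator_def, Subgroup.map_commutator,
      Subgroup.map_top_of_surjective _ e.surjective, ← commutator_def, h3]
  · rw [← h4, ← map_center_eq e, Subgroup.card_map_of_injective e.injective]

end Cfsg.Agent.Qd
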