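/-
In `Qd(p)` the normalizer of a nontrivial characteristic subgroup of a Sylow `p`-subgroup is the
normalizer of that Sylow subgroup, a proper subgroup (any prime `p`).
-/
import Cfsg.Agent.Lib.Qd.Basic

set_option autoImplicit false
set_option linter.unusedSimpArgs false

namespace Cfsg.Agent.Qd

open Cfsg.Agent.S2231 (unitri)

variable {p : ℕ} [Fact p.Prime]

local notation "SL3" => Matrix.SpecialLinearGroup (Fin 3) (ZMod p)

theorem mat_coord (M : ↥(unitri p)) : mat (coord M).1 (coord M).2.1 (coord M).2.2 = M :=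
  coord_injective (coord_mat _ _ _)

theorem mat_mul (a b c a' b' c' : ZMod p) :
    mat a b c * mat a' b' c' = mat (a + a') (b + b') (c + c' + a * b') :=
  coord_injective (by rw [coord_mul, coord_mat, coord_mat, coord_mat])

theorem mat_inv (a b c : ZMod p) : (mat a b c)⁻¹ = mat (-a) (-b) (a * b - c) := by
  refine inv_eq_of_mul_eq_one_right (coord_injective ?_)
  rw [mat_mul, coord_mat, show (coord (1 : ↥(unitri p))) = (0, 0, 0) by simp [coord]]
  exact Prod.ext (by ring) (Prod.ext (by ring) (by ring))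

/-- An automorphism of the unitriangular group exchanging the two abelian coordinate subgroups. -/
noncomputable def swapAut : ↥(unitri p) ≃* ↥(unitri p) where
  toFun M := mat (-(coord M).2.1) (-(coord M).1) ((coord M).1 * (coord M).2.1 - (coord M).2.2)
  invFun M := mat (-(coord M).2.1) (-(coord M).1) ((coord M).1 * (coord M).2.1 - (coord M).2.2)
  left_inv M := coord_injective (by
    simp only [coord_mat, neg_neg]
    exact Prod.ext rfl (Prod.ext rfl (by ring)))
  right_inv M := coord_injective (by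
    simp only [coord_mat, neg_neg]
    exact Prod.ext rfl (Prod.ext rfl (by ring)))
  map_mul' M N := coord_injective (by
    simp only [coord_mat, coord_mul]
    exact Prod.ext (by ring) (Prod.ext (by ring) (by ring)))

theorem card_unitri' : IsPGroup p ↥(unitri p) := IsPGroup.of_card card_unitri

theorem mat_val (a b c : ZMod p) :
    ((mat a b c : SL3) : Matrix (Fin 3) (Fin 3) (ZMod p)) = !![1, a, c; 0, 1, b; 0, 0, 1] := rfl

/-- The Weyl element of `Qd(p)`. -/
def wey : SL3 := ⟨!![0, -1, 0; 1, 0, 0; 0, 0, 1], by simp [Matrix.det_fin_three]⟩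

theorem wey_mem : (wey : SL3) ∈ Cfsg.qd p :=
  Subgroup.subset_closure ⟨by simp [wey], by simp [wey], by simp [wey]⟩

theorem wey_val :
    ((wey : SL3) : Matrix (Fin 3) (Fin 3) (ZMod p)) = !![0, -1, 0; 1, 0, 0; 0, 0, 1] := rfl

theorem borel_normalizes {g : SL3} (hg : g ∈ Cfsg.qd p) (h10 : g.1 1 0 = 0) {M : SL3}
    (hM : M ∈ unitri p) : g * M * g⁻¹ ∈ unitri p := by
  obtain ⟨g20, g21, g22⟩ := bottom_row hg
  obtain ⟨m00, m11, m22, m10, m20, m21⟩ := mem_unitri.1 hM
  have hd : g.1 0 0 * g.1 1 1 = 1 := by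
    have h := g.2
    rw [Matrix.det_fin_three, g20, g21, g22, h10] at h
    linear_combination h
  refine mem_unitri.2 ?_
  refine ⟨?_, ?_, ?_, ?_, ?_, ?_⟩ <;>
    simp only [Matrix.SpecialLinearGroup.coe_mul, Matrix.SpecialLinearGroup.coe_inv,
      Matrix.adjugate_fin_three, Matrix.mul_apply, Fin.sum_univ_three, g20, g21, g22, h10, m00, m11,
      m22, m10, m20, m21, Matrix.of_apply, Matrix.cons_val', Matrix.cons_val_zero,
      Matrix.cons_val_one, Matrix.cons_val, Matrix.empty_val', Matrix.cons_val_fin_one] <;>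
    first
      | linear_combination hd
      | ring1

/-- A translation in `Qd(p)` conjugated by `g`. -/
theorem conj_translation {g : SL3} (hg : g ∈ Cfsg.qd p) (b c : ZMod p) :
    g * (mat 0 b c : SL3) =
      (mat (0 : ZMod p) (g.1 1 0 * c + g.1 1 1 * b) (g.1 0 0 * c + g.1 0 1 * b) : SL3) * g := by
  obtain ⟨g20, g21, g22⟩ := bottom_row hg
  apply Subtype.ext
  ext i j
  fin_cases i <;> fin_cases j <;>
    simp [mat_val, Matrix.SpecialLinearGroup.coe_mul, Matrix.mul_apply, Fin.sum_univ_three, g20, g21, g22] <;> ring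

theorem pow_translation (b c : ZMod p) (n : ℕ) :
    (mat 0 b c) ^ n = mat (0 : ZMod p) (n * b) (n * c) := by
  induction n with
  | zero => exact coord_injective (by simp [coord, mat])
  | succ n ih =>
    rw [pow_succ, ih, mat_mul]
    apply coord_injective
    simp only [coord_mat]
    push_cast
    exact Prod.ext (by ring) (Prod.ext (by ring) (by ring))

theorem translation_mem {T : Subgroup ↥(unitri p)} {b c : ZMod p} (h : mat 0 b c ∈ T) (r : ZMod p) :
    mat 0 (r * b) (r * c) ∈ T := by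
  have := pow_mem h r.val
  rwa [pow_translation, ZMod.natCast_zmod_val] at this

theorem normalizer_char {T : Subgroup ↥(unitri p)} [hT : T.Characteristic] (hne : T ≠ ⊥)
    {g : SL3} (hg : g ∈ Cfsg.qd p)
    (hn : ∀ t : ↥(unitri p), t ∈ T → g * (t : SL3) * g⁻¹ ∈ T.map (unitri p).subtype) :
    g.1 1 0 = 0 := by
  by_contra h10
  -- a nontrivial central element of `T`
  obtain ⟨c, hc, hcT⟩ : ∃ c : ZMod p, c ≠ 0 ∧ mat 0 0 c ∈ T := by
    obtain ⟨M, hM, hM1⟩ := (T.bot_or_exists_ne_one).resolve_left hne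
    obtain ⟨a, b, c, rfl⟩ : ∃ a b c, M = mat a b c := ⟨_, _, _, (mat_coord M).symm⟩
    haveI : T.Normal := Subgroup.normal_of_characteristic T
    have key : ∀ x : ↥(unitri p), x * mat a b c * x⁻¹ * (mat a b c)⁻¹ ∈ T := fun x =>
      mul_mem (Subgroup.Normal.conj_mem inferInstance _ hM x) (inv_mem hM)
    by_cases ha : a = 0
    · by_cases hb : b = 0
      · subst ha hb
        refine ⟨c, fun h => hM1 ?_, hM⟩
        subst h
        exact coord_injective (by simp [coord, mat])
      · have := key (mat 1 0 0)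
        rw [mat_inv, mat_inv, mat_mul, mat_mul, mat_mul] at this
        refine ⟨b, hb, ?_⟩
        convert this using 2 <;> subst ha <;> ring
    · have := key (mat 0 1 0)
      rw [mat_inv, mat_inv, mat_mul, mat_mul, mat_mul] at this
      refine ⟨-a, neg_ne_zero.2 ha, ?_⟩
      convert this using 2 <;> ring
  -- its conjugate by `g` is a translation outside the centre
  obtain ⟨y, x, hy, hyT⟩ : ∃ y x : ZMod p, y ≠ 0 ∧ mat 0 y x ∈ T := by
    refine ⟨g.1 1 0 * c, g.1 0 0 * c, mul_ne_zero h10 hc, ?_⟩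
    obtain ⟨s, hs, hse⟩ := hn _ hcT
    rw [conj_translation hg, mul_inv_cancel_right, mul_zero, mul_zero, add_zero, add_zero] at hse
    rwa [← Subtype.ext hse]
  -- so `T` contains every translation
  have hV : ∀ b d : ZMod p, mat 0 b d ∈ T := fun b d => by
    have h := mul_mem (translation_mem hyT (b * y⁻¹))
      (translation_mem hcT ((d - b * y⁻¹ * x) * c⁻¹))
    rw [mat_mul] at h
    convert h using 2
    · ring
    · field_simp
      ring
    · field_simp
      ring
  -- and, being characteristic, everything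
  have h1 : mat (-1) 0 0 ∈ T := by
    have := (Subgroup.characteristic_iff_le_comap.1 hT) swapAut (hV 1 0)
    rw [Subgroup.mem_comap] at this
    simpa [swapAut, coord_mat] using this
  have hall : ∀ M : ↥(unitri p), M ∈ T := fun M => by
    obtain ⟨a, b, d, rfl⟩ : ∃ a b c, M = mat a b c := ⟨_, _, _, (mat_coord M).symm⟩
    have hp : ∀ n : ℕ, (mat (p := p) (-1) 0 0) ^ n = mat (-(n : ZMod p)) 0 0 := by
      intro n
      induction n with
      | zero => exact coord_injective (by simp [coord, mat])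
      | succ n ih =>
        rw [pow_succ, ih, mat_mul]
        apply coord_injective
        simp only [coord_mat]
        push_cast
        exact Prod.ext (by ring) (Prod.ext (by ring) (by ring))
    have h := mul_mem (hV b d) (pow_mem h1 (-a).val)
    rw [hp, ZMod.natCast_zmod_val, neg_neg, mat_mul] at h
    simpa using h
  obtain ⟨s, -, hse⟩ := hn _ (hall (mat 1 0 0))
  have he : (s : SL3) * g = g * (mat (1 : ZMod p) 0 0 : SL3) := by
    rw [show (s : SL3) = _ from hse]; group
  obtain ⟨g20, g21, g22⟩ := bottom_row hg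
  obtain ⟨s00, s11, s22, s10, s20, s21⟩ := mem_unitri.1 s.2
  have e11 := congrArg (fun Z : SL3 => Z.1 1 1) he
  simp [Matrix.SpecialLinearGroup.coe_mul, Matrix.mul_apply, Fin.sum_univ_three, mat_val, s10, s11, g21] at e11
  exact h10 e11

/-- The upper triangular Sylow subgroup of `Qd(p)`. -/
theorem exists_upper_sylow :
    ∃ U : Sylow p ↥(Cfsg.qd p), (U : Subgroup ↥(Cfsg.qd p)) = (unitri p).subgroupOf (Cfsg.qd p) := by
  refine LESylow.exists_sylow_eq (card_unitri'.comap_of_injective _ Subtype.coe_injective)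
    (fun R hR _ hRN x hx => ?_)
  obtain ⟨k, hk⟩ := hR ⟨x, hx⟩
  refine normalizer_pElement x.2 ?_ (congrArg (fun z : ↥R => ((z : ↥(Cfsg.qd p)) : SL3)) hk)
  have hn := hRN hx
  rw [Subgroup.mem_normalizer_iff]
  intro y
  constructor
  · intro hy
    exact (Subgroup.mem_normalizer_iff.1 hn ⟨y, unitri_le_qd hy⟩).1 hy
  · intro hy
    have hyq : y ∈ Cfsg.qd p := by
      have := mul_mem (mul_mem (inv_mem x.2) (unitri_le_qd hy)) x.2
      simpa [mul_assoc] using this
    exact (Subgroup.mem_normalizer_iff.1 hn ⟨y, hyq⟩).2 hy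

theorem normalizer_map_char {G : Type*} [Group G] (S : Subgroup G) (T : Subgroup ↥S)
    [hT : T.Characteristic] :
    Subgroup.normalizer (S : Set G) ≤ Subgroup.normalizer ((T.map S.subtype : Subgroup G) : Set G) := by
  have key : ∀ g ∈ Subgroup.normalizer (S : Set G), ∀ y ∈ T.map S.subtype,
      g * y * g⁻¹ ∈ T.map S.subtype := by
    rintro g hg _ ⟨t, ht, rfl⟩
    let e : ↥S ≃* ↥S :=
      { toFun := fun s => ⟨g * s * g⁻¹, (Subgroup.mem_normalizer_iff.1 hg _).1 s.2⟩
        invFun := fun s => ⟨g⁻¹ * s * g, (Subgroup.mem_normalizer_iff''.1 hg _).1 s.2⟩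
        left_inv := fun s => Subtype.ext (by simp [mul_assoc])
        right_inv := fun s => Subtype.ext (by simp [mul_assoc])
        map_mul' := fun a b => Subtype.ext (by simp [mul_assoc]) }
    exact ⟨e t, (Subgroup.characteristic_iff_le_comap.1 hT e) ht, rfl⟩
  intro g hg
  refine Subgroup.mem_normalizer_iff.2 fun y => ⟨key g hg y, fun h => ?_⟩
  have := key g⁻¹ (inv_mem hg) _ h
  simpa [mul_assoc] using this

/-- S2763. -/
theorem normalizer_eq (S : Sylow p ↥(Cfsg.qd p))
    (T : Subgroup ↥(S : Subgroup ↥(Cfsg.qd p))) (hT : T ≠ ⊥) [hTc : T.Characteristic] :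
    Subgroup.normalizer ((T.map (S : Subgroup ↥(Cfsg.qd p)).subtype : Subgroup ↥(Cfsg.qd p)) :
        Set ↥(Cfsg.qd p)) = Subgroup.normalizer ((S : Subgroup ↥(Cfsg.qd p)) : Set ↥(Cfsg.qd p)) ∧
      Subgroup.normalizer ((S : Subgroup ↥(Cfsg.qd p)) : Set ↥(Cfsg.qd p)) ≠ ⊤ := by
  obtain ⟨U, hU⟩ := exists_upper_sylow (p := p)
  obtain ⟨h, hh⟩ := MulAction.exists_smul_eq (↥(Cfsg.qd p)) U S
  have hSU : ∀ x : ↥(Cfsg.qd p), x ∈ (S : Subgroup ↥(Cfsg.qd p)) ↔
      ((h⁻¹ * x * h : ↥(Cfsg.qd p)) : SL3) ∈ unitri p := by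
    intro x
    rw [← hh, Sylow.coe_subgroup_smul, Subgroup.mem_pointwise_smul_iff_inv_smul_mem, hU,
      Subgroup.mem_subgroupOf]
    simp [MulAut.smul_def]
  let ψ : ↥(S : Subgroup ↥(Cfsg.qd p)) ≃* ↥(unitri p) :=
    { toFun := fun x => ⟨_, (hSU x).1 x.2⟩
      invFun := fun u => ⟨h * ⟨(u : SL3), unitri_le_qd u.2⟩ * h⁻¹, (hSU _).2 (by
        convert u.2 using 1; simp [mul_assoc])⟩
      left_inv := fun x => Subtype.ext (Subtype.ext (by simp [mul_assoc]))
      right_inv := fun u => Subtype.ext (by simp [mul_assoc])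
      map_mul' := fun a b => Subtype.ext (by simp [mul_assoc]) }
  have hc' : (T.map ψ.toMonoidHom).Characteristic := by
    rw [Subgroup.characteristic_iff_le_comap]
    intro e u hu
    obtain ⟨t, ht, rfl⟩ := hu
    exact ⟨(ψ.trans (e.trans ψ.symm)) t,
      (Subgroup.characteristic_iff_le_comap.1 hTc _) ht, by simp⟩
  have hne' : T.map ψ.toMonoidHom ≠ ⊥ := fun h0 => hT (by
    rw [Subgroup.map_eq_bot_iff_of_injective _ ψ.injective] at h0; exact h0)
  have hle : Subgroup.normalizer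
      ((T.map (S : Subgroup ↥(Cfsg.qd p)).subtype : Subgroup ↥(Cfsg.qd p)) : Set ↥(Cfsg.qd p)) ≤
      Subgroup.normalizer ((S : Subgroup ↥(Cfsg.qd p)) : Set ↥(Cfsg.qd p)) := by
    intro g hg
    haveI := hc'
    have h10 : ((h⁻¹ * g * h : ↥(Cfsg.qd p)) : SL3).1 1 0 = 0 := by
      refine normalizer_char hne' (h⁻¹ * g * h : ↥(Cfsg.qd p)).2 ?_
      rintro _ ⟨t, ht, rfl⟩
      obtain ⟨t', ht', hte⟩ := (Subgroup.mem_normalizer_iff.1 hg _).1 ⟨t, ht, rfl⟩
      refine ⟨ψ t', ⟨t', ht', rfl⟩, ?_⟩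
      simp [ψ, show (t' : ↥(Cfsg.qd p)) = _ from hte, mul_assoc]
    have h10' : ((h⁻¹ * g * h : ↥(Cfsg.qd p))⁻¹ : ↥(Cfsg.qd p)).1.1 1 0 = 0 := by
      obtain ⟨q, hq⟩ : ∃ q : ↥(Cfsg.qd p), q = h⁻¹ * g * h := ⟨_, rfl⟩
      rw [← hq] at h10 ⊢
      obtain ⟨g20, g21, g22⟩ := bottom_row q.2
      rw [Subgroup.coe_inv, Matrix.SpecialLinearGroup.coe_inv, Matrix.adjugate_fin_three]
      simp [g20, g22, h10]
    refine Subgroup.mem_normalizer_iff.2 fun x => ?_
    rw [hSU, hSU]
    constructor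
    · intro hx
      have := borel_normalizes (h⁻¹ * g * h : ↥(Cfsg.qd p)).2 h10 hx
      simpa [mul_assoc] using this
    · intro hx
      have := borel_normalizes ((h⁻¹ * g * h : ↥(Cfsg.qd p))⁻¹ : ↥(Cfsg.qd p)).2 h10' hx
      simpa [mul_assoc] using this
  refine ⟨le_antisymm hle (normalizer_map_char _ T), fun htop => ?_⟩
  let w : ↥(Cfsg.qd p) := h * ⟨wey, wey_mem⟩ * h⁻¹
  have hw : w ∈ Subgroup.normalizer ((S : Subgroup ↥(Cfsg.qd p)) : Set ↥(Cfsg.qd p)) :=
    htop ▸ Subgroup.mem_top w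
  have h1 : h * ⟨(mat (1 : ZMod p) 0 0 : SL3), unitri_le_qd (mat (1 : ZMod p) 0 0).2⟩ * h⁻¹ ∈
      (S : Subgroup ↥(Cfsg.qd p)) :=
    (hSU _).2 (by convert (mat (1 : ZMod p) 0 0).2 using 1; simp [mul_assoc])
  have h2 := (hSU _).1 ((Subgroup.mem_normalizer_iff.1 hw _).1 h1)
  have h3 : (wey : SL3) * (mat (1 : ZMod p) 0 0 : SL3) * (wey : SL3)⁻¹ ∈ unitri p := by
    convert h2 using 1
    simp [w, mul_assoc]
  have := (mem_unitri.1 h3).2.2.2.1
  simp [Matrix.SpecialLinearGroup.coe_mul, Matrix.SpecialLinearGroup.coe_inv, wey_val, mat_val, Matrix.adjugate_fin_three, Matrix.mul_apply, Fin.sum_univ_three] at this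

end Cfsg.Agent.Qd
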