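/-
A group isomorphic to `Qd(p)`: fusion is not controlled by characteristic functors, and (odd `p`)
the group is not `p`-stable.
-/
import Cfsg.Agent.Lib.Qd.CharNormalizer
import Cfsg.Agent.Lib.Transfer.Basic
import Cfsg.Prelude.Def_ConjugacyFunctors
import Cfsg.Prelude.Def_LocalEven

set_option autoImplicit false
set_option linter.unusedSimpArgs false
set_option linter.style.haveILetI false

namespace Cfsg.Agent.Qd

open Cfsg.Agent.S2231 (unitri)
open scoped commutatorElement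

variable {p : ℕ} [Fact p.Prime]

local notation "SL3" => Matrix.SpecialLinearGroup (Fin 3) (ZMod p)

theorem mem_sylow_iff (S U : Sylow p ↥(Cfsg.qd p))
    (hU : (U : Subgroup ↥(Cfsg.qd p)) = (unitri p).subgroupOf (Cfsg.qd p)) :
    ∃ h : ↥(Cfsg.qd p), ∀ x : ↥(Cfsg.qd p),
      x ∈ (S : Subgroup ↥(Cfsg.qd p)) ↔ ((h⁻¹ * x * h : ↥(Cfsg.qd p)) : SL3) ∈ unitri p := by
  obtain ⟨h, hh⟩ := MulAction.exists_smul_eq (↥(Cfsg.qd p)) U S
  refine ⟨h, fun x => ?_⟩
  rw [← hh, Sylow.coe_subgroup_smul, Subgroup.mem_pointwise_smul_iff_inv_smul_mem, hU,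
    Subgroup.mem_subgroupOf]
  simp [MulAut.smul_def]

/-- A translation as an element of `Qd(p)`. -/
def tr (b c : ZMod p) : ↥(Cfsg.qd p) :=
  ⟨(mat (0 : ZMod p) b c : SL3), unitri_le_qd (mat (0 : ZMod p) b c).2⟩

theorem tr_conj (g : ↥(Cfsg.qd p)) (b c : ZMod p) :
    g * tr b c * g⁻¹ =
      tr ((g : SL3).1 1 0 * c + (g : SL3).1 1 1 * b) ((g : SL3).1 0 0 * c + (g : SL3).1 0 1 * b) := by
  rw [mul_inv_eq_iff_eq_mul]
  exact Subtype.ext (conj_translation g.2 b c)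

theorem tr_inj {b c b' c' : ZMod p} (h : tr b c = tr b' c') : b = b' ∧ c = c' := by
  have h2 := congrArg coord (Subtype.ext (congrArg (fun z : ↥(Cfsg.qd p) => (z : SL3)) h) :
    mat (0 : ZMod p) b c = mat 0 b' c')
  simp only [coord_mat, Prod.mk.injEq] at h2
  exact h2.2

theorem tr_mem_sylow (S : Sylow p ↥(Cfsg.qd p)) (b c : ZMod p) :
    tr b c ∈ (S : Subgroup ↥(Cfsg.qd p)) := by
  obtain ⟨U, hU⟩ := exists_upper_sylow (p := p)
  obtain ⟨h, hh⟩ := mem_sylow_iff S U hU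
  rw [hh]
  have e := tr_conj h⁻¹ b c
  rw [inv_inv] at e
  rw [e]
  exact (mat (p := p) 0 _ _).2

/-- Two conjugate elements lying in every Sylow subgroup whose conjugacy is not induced by
`N(S)`. -/
theorem fusion_escapes (S : Sylow p ↥(Cfsg.qd p)) :
    ∃ a h : ↥(Cfsg.qd p), (∀ T : Sylow p ↥(Cfsg.qd p), a ∈ (T : Subgroup ↥(Cfsg.qd p)) ∧
        h * a * h⁻¹ ∈ (T : Subgroup ↥(Cfsg.qd p))) ∧
      ∀ x ∈ Subgroup.normalizer ((S : Subgroup ↥(Cfsg.qd p)) : Set ↥(Cfsg.qd p)),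
        x * a * x⁻¹ ≠ h * a * h⁻¹ := by
  obtain ⟨U, hU⟩ := exists_upper_sylow (p := p)
  obtain ⟨k, hk⟩ := mem_sylow_iff S U hU
  let w : ↥(Cfsg.qd p) := ⟨wey, wey_mem⟩
  refine ⟨k * tr 0 1 * k⁻¹, k * w * k⁻¹, fun T => ⟨?_, ?_⟩, fun x hx hne => ?_⟩
  · rw [tr_conj]; exact tr_mem_sylow T _ _
  · rw [tr_conj, tr_conj]; exact tr_mem_sylow T _ _
  obtain ⟨y, hy⟩ : ∃ y : ↥(Cfsg.qd p), y = k⁻¹ * x * k := ⟨_, rfl⟩
  have h10 : (y : SL3).1 1 0 = 0 := by
    have h1 : k * ⟨(mat (1 : ZMod p) 0 0 : SL3), unitri_le_qd (mat (1 : ZMod p) 0 0).2⟩ * k⁻¹ ∈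
        (S : Subgroup ↥(Cfsg.qd p)) :=
      (hk _).2 (by convert (mat (1 : ZMod p) 0 0).2 using 1; simp [mul_assoc])
    have h2 := (hk _).1 ((Subgroup.mem_normalizer_iff.1 hx _).1 h1)
    have h3 : (y : SL3) * (mat (1 : ZMod p) 0 0 : SL3) * (y : SL3)⁻¹ ∈ unitri p := by
      convert h2 using 1
      simp [hy, mul_assoc]
    obtain ⟨n00, n11, n22, n10, n20, n21⟩ := mem_unitri.1 h3
    obtain ⟨g20, g21, g22⟩ := bottom_row y.2
    have e : ((y : SL3) * (mat (1 : ZMod p) 0 0 : SL3) * (y : SL3)⁻¹) * (y : SL3) =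
        (y : SL3) * (mat (1 : ZMod p) 0 0 : SL3) := by group
    generalize (y : SL3) * (mat (1 : ZMod p) 0 0 : SL3) * (y : SL3)⁻¹ = N at n00 n11 n22 n10 n20 n21 e
    have e11 := congrArg (fun Z : SL3 => Z.1 1 1) e
    simpa [Matrix.SpecialLinearGroup.coe_mul, Matrix.mul_apply, Fin.sum_univ_three, mat_val, n10,
      n11, g21] using e11
  have e2 : y * tr 0 1 * y⁻¹ = w * tr 0 1 * w⁻¹ := by
    calc y * tr 0 1 * y⁻¹ = k⁻¹ * (x * (k * tr 0 1 * k⁻¹) * x⁻¹) * k := by rw [hy]; group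
      _ = w * tr 0 1 * w⁻¹ := by rw [hne]; group
  rw [tr_conj, tr_conj, h10] at e2
  have := (tr_inj e2).1
  simp [w, wey_val] at this

/-! ### Groups isomorphic to `Qd(p)` -/

universe u

variable {Y : Type u} [Group Y]

theorem normalizer_map_equiv {A B : Type*} [Group A] [Group B] (e : A ≃* B) (H : Subgroup A) (x : A) :
    e x ∈ Subgroup.normalizer (H.map e.toMonoidHom : Set B) ↔ x ∈ Subgroup.normalizer (H : Set A) := by
  rw [← Subgroup.map_equiv_normalizer_eq H e]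
  exact Subgroup.mem_map_iff_mem (f := e.toMonoidHom) e.injective

theorem model_normalizer [Finite Y] (e : Y ≃* ↥(Cfsg.qd p)) (S : Sylow p Y)
    (T : Subgroup ↥(S : Subgroup Y)) [hTc : T.Characteristic] (hT : T ≠ ⊥) :
    Subgroup.normalizer ((T.map (S : Subgroup Y).subtype : Subgroup Y) : Set Y) ≤
      Subgroup.normalizer ((S : Subgroup Y) : Set Y) := by
  set S' : Sylow p ↥(Cfsg.qd p) := S.mapSurjective (f := e.toMonoidHom) e.surjective with hS'
  let ψ : ↥(S : Subgroup Y) ≃* ↥(S' : Subgroup ↥(Cfsg.qd p)) :=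
    (e.subgroupMap (S : Subgroup Y)).trans (MulEquiv.subgroupCongr rfl)
  have hc' : (T.map ψ.toMonoidHom).Characteristic := by
    rw [Subgroup.characteristic_iff_le_comap]
    intro φ u hu
    obtain ⟨t, ht, rfl⟩ := hu
    exact ⟨(ψ.trans (φ.trans ψ.symm)) t,
      (Subgroup.characteristic_iff_le_comap.1 hTc _) ht, by simp⟩
  have hne' : T.map ψ.toMonoidHom ≠ ⊥ := fun h0 => hT (by
    rw [Subgroup.map_eq_bot_iff_of_injective _ ψ.injective] at h0; exact h0)
  have hmap : (T.map (S : Subgroup Y).subtype).map e.toMonoidHom =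
      (T.map ψ.toMonoidHom).map (S' : Subgroup ↥(Cfsg.qd p)).subtype := by
    rw [Subgroup.map_map, Subgroup.map_map]; rfl
  intro x hx
  rw [← normalizer_map_equiv e] at hx ⊢
  rw [hmap] at hx
  haveI := hc'
  rw [(normalizer_eq S' (T.map ψ.toMonoidHom) hne').1] at hx
  exact hx

theorem model_fusion [Finite Y] (e : Y ≃* ↥(Cfsg.qd p)) (S : Sylow p Y) :
    ∃ a h : Y, (∀ T : Sylow p Y, a ∈ (T : Subgroup Y) ∧ h * a * h⁻¹ ∈ (T : Subgroup Y)) ∧
      ∀ x ∈ Subgroup.normalizer ((S : Subgroup Y) : Set Y), x * a * x⁻¹ ≠ h * a * h⁻¹ := by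
  set S' : Sylow p ↥(Cfsg.qd p) := S.mapSurjective (f := e.toMonoidHom) e.surjective with hS'
  obtain ⟨a, h, hmem, hne⟩ := fusion_escapes S'
  refine ⟨e.symm a, e.symm h, fun T => ?_, fun x hx heq => ?_⟩
  · have hT := hmem (T.mapSurjective (f := e.toMonoidHom) e.surjective)
    rw [← map_inv, ← map_mul, ← map_mul]
    exact ⟨(Subgroup.mem_map_equiv (f := e)).1 hT.1, (Subgroup.mem_map_equiv (f := e)).1 hT.2⟩
  · refine hne (e x) ?_ ?_
    · exact (normalizer_map_equiv e (S : Subgroup Y) x).2 hx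
    · rw [← e.apply_symm_apply a, ← map_inv, ← map_mul, ← map_mul, heq]
      simp

/-- No characteristic functors control strong fusion in `Qd(p)`. -/
theorem model_not_family [Finite Y] (e : Y ≃* ↥(Cfsg.qd p))
    (𝓦 : Set (∀ (Q : Type u) [Group Q], Subgroup Q)) (h𝓦 : ∀ W ∈ 𝓦, Cfsg.IsCharPFunctor.{u} p W) :
    ¬ Cfsg.FamilyControlsStrongFusionIn p ((fun W => Cfsg.inducedFunctor (G := Y) W) '' 𝓦) ⊤ := by
  rintro ⟨T, -, hTp, hidx, hfus⟩
  rw [Subgroup.relIndex_top_right] at hidx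
  obtain ⟨S, hS⟩ : ∃ S : Sylow p Y, (S : Subgroup Y) = T := ⟨hTp.toSylow hidx, rfl⟩
  subst hS
  obtain ⟨a, h, hmem, hne⟩ := model_fusion e S
  obtain ⟨n, c, hc0, hstep, -, hlast⟩ := hfus {a} h (Subgroup.mem_top h)
    (Set.singleton_subset_iff.2 (hmem S).1)
    (by rw [Set.image_singleton, Set.singleton_subset_iff]; exact (hmem S).2)
  have hN : ∀ i : Fin (n + 1), c i ∈ Subgroup.normalizer ((S : Subgroup Y) : Set Y) := by
    intro i
    induction i using Fin.induction with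
    | zero => rw [hc0]; exact one_mem _
    | succ i ih =>
      obtain ⟨_, ⟨W, hW, rfl⟩, hm⟩ := hstep i
      obtain ⟨hWn, hWm⟩ := h𝓦 W hW
      have hcW : (W ↥(S : Subgroup Y)).Characteristic :=
        Subgroup.characteristic_iff_map_eq.2 fun φ => hWm _ _ S.isPGroup' φ
      haveI := hcW
      have hS1 : Nontrivial ↥(S : Subgroup Y) := by
        rw [Subgroup.nontrivial_iff_ne_bot]
        intro hbot
        have ha := (hmem S).1
        rw [hbot, Subgroup.mem_bot] at ha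
        exact hne 1 (one_mem _) (by simp [ha])
      have := model_normalizer e S (W ↥(S : Subgroup Y)) (hWn _ S.isPGroup' hS1)
        (Subgroup.mem_inf.1 hm).2
      simpa using mul_mem this ih
  exact hne _ (hN _) (hlast a rfl)

/-- The centralizer-quotient form of `p`-stability fails in `Qd(p)`. -/
theorem model_not_pStable [Finite Y] (e : Y ≃* ↥(Cfsg.qd p)) : ¬ Cfsg.IsNormalizerPStable p Y := by
  intro hst
  -- the translations
  let V : Subgroup ↥(Cfsg.qd p) := Subgroup.closure (Set.range fun bc : ZMod p × ZMod p => tr bc.1 bc.2)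
  have hVtr : ∀ x ∈ V, ∃ b c, x = tr b c := by
    intro x hx
    induction hx using Subgroup.closure_induction with
    | mem x hx => obtain ⟨bc, rfl⟩ := hx; exact ⟨bc.1, bc.2, rfl⟩
    | one => exact ⟨0, 0, Subtype.ext (congrArg (fun z : ↥(unitri p) => (z : SL3))
        (show (1 : ↥(unitri p)) = mat 0 0 0 from coord_injective (by simp [coord, mat])))⟩
    | mul a b _ _ ha hb =>
      obtain ⟨b1, c1, rfl⟩ := ha
      obtain ⟨b2, c2, rfl⟩ := hb
      refine ⟨b1 + b2, c1 + c2, Subtype.ext ?_⟩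
      have := congrArg (fun z : ↥(unitri p) => (z : SL3)) (mat_mul (0 : ZMod p) b1 c1 0 b2 c2)
      simpa [tr] using this
    | inv a _ ha =>
      obtain ⟨b1, c1, rfl⟩ := ha
      refine ⟨-b1, -c1, Subtype.ext ?_⟩
      have := congrArg (fun z : ↥(unitri p) => (z : SL3)) (mat_inv (0 : ZMod p) b1 c1)
      simpa [tr] using this
  have hVn : ∀ g : ↥(Cfsg.qd p), ∀ x ∈ V, g * x * g⁻¹ ∈ V := by
    intro g x hx
    obtain ⟨b, c, rfl⟩ := hVtr x hx
    rw [tr_conj]
    exact Subgroup.subset_closure ⟨(_, _), rfl⟩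
  haveI : V.Normal := ⟨fun x hx g => hVn g x hx⟩
  obtain ⟨U, hU⟩ := exists_upper_sylow (p := p)
  have hVU : V ≤ (U : Subgroup ↥(Cfsg.qd p)) := (Subgroup.closure_le _).2 (by
    rintro _ ⟨bc, rfl⟩
    exact tr_mem_sylow U _ _)
  let g : ↥(Cfsg.qd p) := ⟨(mat (1 : ZMod p) 0 0 : SL3), unitri_le_qd (mat (1 : ZMod p) 0 0).2⟩
  set P := V.map e.symm.toMonoidHom with hP
  haveI : P.Normal := Subgroup.Normal.map inferInstance _ e.symm.surjective
  have hPp : IsPGroup p ↥P := (U.isPGroup'.to_le hVU).map _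
  have hg : e.symm g ∈ Subgroup.normalizer (P : Set Y) := by
    rw [Subgroup.normalizer_eq_top]; trivial
  have hquad : ⁅⁅P, Subgroup.zpowers (e.symm g)⁆, Subgroup.zpowers (e.symm g)⁆ = ⊥ := by
    have h0 : ⁅⁅V, Subgroup.zpowers g⁆, Subgroup.zpowers g⁆ = ⊥ := by
      have h1 : ∀ c : ZMod p, g * tr 0 c = tr 0 c * g := fun c => by
        rw [← mul_inv_eq_iff_eq_mul, tr_conj]
        simp [g, mat_val]
      rw [Subgroup.commutator_eq_bot_iff_le_centralizer, Subgroup.commutator_le]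
      intro x hx z hz
      obtain ⟨b, c, rfl⟩ := hVtr x hx
      obtain ⟨m, rfl⟩ := Subgroup.mem_zpowers_iff.1 hz
      obtain ⟨d, hd⟩ : ∃ d, ⁅tr b c, g ^ m⁆ = tr (0 : ZMod p) d := by
        have hgm : ((g ^ m : ↥(Cfsg.qd p)) : SL3).1 1 0 = 0 ∧ ((g ^ m : ↥(Cfsg.qd p)) : SL3).1 1 1 = 1 := by
          have hm : ((g ^ m : ↥(Cfsg.qd p)) : SL3) ∈ unitri p := by
            rw [SubgroupClass.coe_zpow]; exact zpow_mem (mat (1 : ZMod p) 0 0).2 m
          exact ⟨(mem_unitri.1 hm).2.2.2.1, (mem_unitri.1 hm).2.1⟩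
        have e1 : ⁅tr b c, g ^ m⁆ = tr b c * (g ^ m * tr b c * (g ^ m)⁻¹)⁻¹ := by
          rw [commutatorElement_def]; group
        rw [tr_conj, hgm.1, hgm.2, zero_mul, zero_add, one_mul] at e1
        refine ⟨c - (((g ^ m : ↥(Cfsg.qd p)) : SL3).1 0 0 * c + ((g ^ m : ↥(Cfsg.qd p)) : SL3).1 0 1 * b),
          e1.trans (Subtype.ext ?_)⟩
        have e3 := congrArg (fun z : ↥(unitri p) => (z : SL3)) (mat_inv (0 : ZMod p) b
          (((g ^ m : ↥(Cfsg.qd p)) : SL3).1 0 0 * c + ((g ^ m : ↥(Cfsg.qd p)) : SL3).1 0 1 * b))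
        have e4 := congrArg (fun z : ↥(unitri p) => (z : SL3)) (mat_mul (0 : ZMod p) b c (-0) (-b)
          (0 * b - (((g ^ m : ↥(Cfsg.qd p)) : SL3).1 0 0 * c + ((g ^ m : ↥(Cfsg.qd p)) : SL3).1 0 1 * b)))
        simp only [Subgroup.coe_mul, Subgroup.coe_inv, tr] at e3 e4 ⊢
        rw [e3, e4]
        congr 1
        simp [sub_eq_add_neg]
      rw [hd, Subgroup.mem_centralizer_iff]
      intro y hy
      obtain ⟨k, rfl⟩ := Subgroup.mem_zpowers_iff.1 hy
      exact Commute.zpow_left (h1 d) k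
    have := congrArg (Subgroup.map e.symm.toMonoidHom) h0
    rwa [Subgroup.map_bot, Subgroup.map_commutator, Subgroup.map_commutator,
      MonoidHom.map_zpowers] at this
  have hmem := hst P hPp (e.symm g) hg hquad
  -- the preimage of `O_p` is a normal `p`-subgroup containing `g`
  set N := Subgroup.normalizer (P : Set Y) with hN
  set C := (Subgroup.centralizer (P : Set Y)).subgroupOf N with hC
  set M := ((Cfsg.pCore p (↥N ⧸ C)).comap (QuotientGroup.mk' C)) with hM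
  have hCp : IsPGroup p ↥C := by
    have hle : (Subgroup.centralizer (P : Set Y)).map e.toMonoidHom ≤ V := by
      rintro _ ⟨x, hx, rfl⟩
      have hx1 : ∀ b c : ZMod p, e x * tr b c * (e x)⁻¹ = tr b c := fun b c => by
        have := congrArg e (Subgroup.mem_centralizer_iff.1 hx (e.symm (tr b c))
          ⟨_, Subgroup.subset_closure ⟨(b, c), rfl⟩, rfl⟩)
        rw [map_mul, map_mul, e.apply_symm_apply] at this
        rw [mul_inv_eq_iff_eq_mul]; exact this.symm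
      obtain ⟨a1, a2⟩ := tr_inj ((tr_conj (e x) 0 1).symm.trans (hx1 0 1))
      obtain ⟨b1, b2⟩ := tr_inj ((tr_conj (e x) 1 0).symm.trans (hx1 1 0))
      simp only [mul_zero, mul_one, add_zero, zero_add] at a1 a2 b1 b2
      obtain ⟨g20, g21, g22⟩ := bottom_row (e x).2
      have : e x = tr (((e x : ↥(Cfsg.qd p)) : SL3).1 1 2) (((e x : ↥(Cfsg.qd p)) : SL3).1 0 2) := by
        apply Subtype.ext
        apply Subtype.ext
        ext i j
        fin_cases i <;> fin_cases j <;> simp [tr, mat_val, a1, a2, b1, b2, g20, g21, g22]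
      show e x ∈ V
      rw [this]
      exact Subgroup.subset_closure ⟨(_, _), rfl⟩
    have h1 : IsPGroup p ↥(Subgroup.centralizer (P : Set Y)) :=
      (U.isPGroup'.to_le (hle.trans hVU)).of_injective
        ((e.toMonoidHom.subgroupMap _) : _ →* ↥((Subgroup.centralizer (P : Set Y)).map e.toMonoidHom))
        (fun a b hab => Subtype.ext (e.injective (congrArg Subtype.val hab)))
    exact h1.comap_of_injective _ Subtype.coe_injective
  have hMp : IsPGroup p ↥M := by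
    refine IsPGroup.comap_of_ker_isPGroup (PBasic.pCore_isPGroup p _) _ ?_
    rw [QuotientGroup.ker_mk']; exact hCp
  have hMn : ((M.map N.subtype).map e.toMonoidHom).Normal := by
    haveI := Cfsg.pCore_normal p (↥N ⧸ C)
    have : M.Normal := Subgroup.Normal.comap inferInstance _
    refine Subgroup.Normal.map ?_ _ e.surjective
    exact Subgroup.Normal.map this _ fun y =>
      ⟨⟨y, by rw [hN, Subgroup.normalizer_eq_top]; trivial⟩, rfl⟩
  have hgM : g ∈ (M.map N.subtype).map e.toMonoidHom :=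
    ⟨e.symm g, ⟨⟨e.symm g, hg⟩, hmem, rfl⟩, e.apply_symm_apply g⟩
  obtain ⟨Q, hQ⟩ := ((hMp.map N.subtype).map e.toMonoidHom).exists_le_sylow
  obtain ⟨k, hk⟩ := MulAction.exists_smul_eq (↥(Cfsg.qd p)) U Q
  let w : ↥(Cfsg.qd p) := ⟨wey, wey_mem⟩
  have h2 : k * w * k⁻¹ * (k * g * k⁻¹) * (k * w * k⁻¹)⁻¹ ∈ (Q : Subgroup ↥(Cfsg.qd p)) :=
    hQ (hMn.conj_mem _ (hMn.conj_mem _ hgM k) _)
  rw [← hk, Sylow.coe_subgroup_smul, Subgroup.mem_pointwise_smul_iff_inv_smul_mem, hU,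
    Subgroup.mem_subgroupOf] at h2
  have h3 : (wey : SL3) * (mat (1 : ZMod p) 0 0 : SL3) * (wey : SL3)⁻¹ ∈ unitri p := by
    convert h2 using 1
    simp [w, g, MulAut.smul_def, mul_assoc]
  have := (mem_unitri.1 h3).2.2.2.1
  simp [Matrix.SpecialLinearGroup.coe_mul, Matrix.SpecialLinearGroup.coe_inv, wey_val, mat_val,
    Matrix.adjugate_fin_three, Matrix.mul_apply, Fin.sum_univ_three] at this

end Cfsg.Agent.Qd
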