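/-
If `Qd(p)` is involved in `G` then `SL₂(p)` is involved in a `p`-local subgroup.
-/
import Cfsg.Agent.Lib.Qd.Model
import Cfsg.Agent.Lib.PStable.Involved

set_option autoImplicit false
set_option linter.style.haveILetI false

namespace Cfsg.Agent.Qd

open Cfsg.Agent.S2231 (unitri)

variable {p : ℕ} [Fact p.Prime]

local notation "SL2" => Matrix.SpecialLinearGroup (Fin 2) (ZMod p)
local notation "SL3" => Matrix.SpecialLinearGroup (Fin 3) (ZMod p)

/-- The upper left block. -/
def blockMat (M : ↥(Cfsg.qd p)) : SL2 :=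
  ⟨!![(M : SL3).1 0 0, (M : SL3).1 0 1; (M : SL3).1 1 0, (M : SL3).1 1 1], by
    obtain ⟨g20, g21, g22⟩ := bottom_row M.2
    have h := (M : SL3).2
    rw [Matrix.det_fin_three, g20, g21, g22] at h
    rw [Matrix.det_fin_two_of]
    linear_combination h⟩

theorem blockMat_val (M : ↥(Cfsg.qd p)) :
    ((blockMat M : SL2) : Matrix (Fin 2) (Fin 2) (ZMod p)) =
      !![(M : SL3).1 0 0, (M : SL3).1 0 1; (M : SL3).1 1 0, (M : SL3).1 1 1] := rfl

/-- `Qd(p) → SL₂(p)`. -/
def block : ↥(Cfsg.qd p) →* SL2 :=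
  MonoidHom.mk' blockMat fun M N => by
    obtain ⟨g20, g21, g22⟩ := bottom_row N.2
    apply Subtype.ext
    ext i j
    fin_cases i <;> fin_cases j <;>
      simp [blockMat_val, Matrix.SpecialLinearGroup.coe_mul, Matrix.mul_apply, Fin.sum_univ_three,
        Fin.sum_univ_two, g20, g21]

theorem block_apply (M : ↥(Cfsg.qd p)) : block M = blockMat M := rfl

theorem block_surjective : Function.Surjective (block (p := p)) := by
  intro A
  have hd : A.1 0 0 * A.1 1 1 - A.1 0 1 * A.1 1 0 = 1 := by rw [← Matrix.det_fin_two]; exact A.2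
  let M : SL3 := ⟨!![A.1 0 0, A.1 0 1, 0; A.1 1 0, A.1 1 1, 0; 0, 0, 1], by
    simp only [Matrix.det_fin_three, Matrix.of_apply, Matrix.cons_val', Matrix.cons_val_zero,
      Matrix.cons_val_one, Matrix.cons_val, Matrix.cons_val_fin_one]
    linear_combination hd⟩
  refine ⟨⟨M, Subgroup.subset_closure ⟨by simp [M], by simp [M], by simp [M]⟩⟩, ?_⟩
  apply Subtype.ext
  ext i j
  fin_cases i <;> fin_cases j <;> simp [block_apply, blockMat_val, M]

theorem involves_sl2_local {G : Type*} [Group G] [Finite G]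
    (h : Cfsg.Involves ↥(Cfsg.qd p) G) :
    ∃ P : Subgroup G, IsPGroup p ↥P ∧ P ≠ ⊥ ∧
      Cfsg.Involves SL2 ↥(Subgroup.normalizer (P : Set G)) := by
  obtain ⟨K, ψ, hψ⟩ := PStable.exists_surjective_of_involves h
  let φ : ↥K →* SL2 := block.comp ψ
  have hφ : Function.Surjective φ := block_surjective.comp hψ
  obtain ⟨P₀⟩ : Nonempty (Sylow p ↥φ.ker) := inferInstance
  set P₁ : Subgroup ↥K := (P₀ : Subgroup ↥φ.ker).map φ.ker.subtype with hP₁
  refine ⟨P₁.map K.subtype, (P₀.isPGroup'.map _).map _, ?_, ?_⟩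
  · rw [ne_eq, Subgroup.map_eq_bot_iff_of_injective _ K.subtype_injective,
      Subgroup.map_eq_bot_iff_of_injective _ φ.ker.subtype_injective]
    intro h0
    obtain ⟨x, hx⟩ := hψ (tr 0 1)
    have hxk : x ∈ φ.ker := by
      show block (ψ x) = 1
      rw [hx]
      apply Subtype.ext
      ext i j
      fin_cases i <;> fin_cases j <;> simp [block_apply, blockMat_val, tr, mat_val]
    have hcard : ¬ p ∣ Nat.card ↥φ.ker := by
      have h2 := P₀.not_dvd_index
      rwa [h0, Subgroup.index_bot] at h2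
    have hpp : tr (0 : ZMod p) 1 ^ p = 1 := by
      apply Subtype.ext
      have e := congrArg (fun z : ↥(unitri p) => (z : SL3)) (pow_translation (0 : ZMod p) 1 p)
      simp only [SubgroupClass.coe_pow, Nat.cast_ofNat, ZMod.natCast_self, zero_mul] at e
      rw [SubgroupClass.coe_pow]
      simp only [tr]
      rw [e, show mat (0 : ZMod p) 0 0 = 1 from coord_injective (by simp [coord, mat])]
      rfl
    have hne : tr (0 : ZMod p) 1 ≠ 1 := fun h1 => by
      have h3 := congrArg (fun z : ↥(Cfsg.qd p) => (z : SL3).1 0 2) h1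
      simp [tr, mat_val] at h3
    have hord : orderOf (tr (0 : ZMod p) 1) = p := orderOf_eq_prime hpp hne
    refine hcard (hord.symm.dvd.trans ?_)
    rw [← hx]
    exact (orderOf_map_dvd (ψ.comp φ.ker.subtype) ⟨x, hxk⟩).trans (orderOf_dvd_natCard _)
  · have hsup : Subgroup.normalizer (P₁ : Set ↥K) ⊔ φ.ker = ⊤ := Sylow.normalizer_sup_eq_top P₀
    set N := Subgroup.normalizer ((P₁.map K.subtype : Subgroup G) : Set G) with hN
    let f : ↥((N ⊓ K).subgroupOf N) →* ↥K :=
      { toFun := fun x => ⟨((x : ↥N) : G), (Subgroup.mem_inf.1 (Subgroup.mem_subgroupOf.1 x.2)).2⟩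
        map_one' := rfl
        map_mul' := fun _ _ => rfl }
    refine PStable.involves_of_surjective (K := (N ⊓ K).subgroupOf N) (φ.comp f) fun a => ?_
    obtain ⟨x, rfl⟩ := hφ a
    obtain ⟨n, hn, m, hm, rfl⟩ := Subgroup.mem_sup_of_normal_right.1 (hsup ▸ Subgroup.mem_top x)
    have hnN : (n : G) ∈ N := Subgroup.le_normalizer_map K.subtype ⟨n, hn, rfl⟩
    refine ⟨⟨⟨n, hnN⟩, Subgroup.mem_subgroupOf.2 ⟨hnN, n.2⟩⟩, ?_⟩
    show φ (⟨(n : G), _⟩ : ↥K) = _
    rw [map_mul, MonoidHom.mem_ker.1 hm, mul_one]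

end Cfsg.Agent.Qd
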