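import Cfsg.Agent.Lib.LocalEven.QdOver
import Cfsg.Agent.Lib.LocalEven.Involvement
import Cfsg.Prelude.Def_PLocal

/-!
# A section `Qd(p)` is seen in the normalizer of a centric `p`-subgroup
-/

set_option autoImplicit false

open scoped Matrix
open Cfsg.Agent.LEQd

namespace Cfsg.Agent.QdLocal

open Cfsg

variable {G : Type*} [Group G] [Finite G] {p : ℕ} [hp : Fact p.Prime]

local notation "SL2" => Matrix.SpecialLinearGroup (Fin 2) (ZMod p)
local notation "M2" => Matrix (Fin 2) (Fin 2) (ZMod p)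

omit [Finite G] in
theorem qd_eq : Cfsg.qd p = Cfsg.qdOver (ZMod p) := rfl

/-- A map onto `SL₂` through a group acting on an elementary abelian section of rank two gives `Qd(p)`. -/
theorem exists_hom_qd (hp2 : p ≠ 2) (R M : Subgroup G) (hR : IsPGroup p R) (hRM : R ≤ M)
    (hMR : M ≤ Subgroup.normalizer (R : Set G)) (θ : M →* SL2) (hθ : Function.Surjective θ)
    (hθR : ∀ r, r ∈ R → ∀ h : r ∈ M, θ ⟨r, h⟩ = 1) (τ : G → Fin 2 → ZMod p)
    (hτsurj : ∀ v, ∃ r ∈ R, τ r = v) (hτmul : ∀ r ∈ R, ∀ r' ∈ R, τ (r * r') = τ r + τ r')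
    (hτeq : ∀ (m : M), ∀ r ∈ R, τ ((m : G) * r * (m : G)⁻¹) = (θ m : M2) *ᵥ τ r) :
    ∃ K : Subgroup G, K ≤ M ∧ ∃ f : K →* ↥(Cfsg.qdOver (ZMod p)), Function.Surjective f := by
  have hconj : ∀ m ∈ M, ∀ r ∈ R, m * r * m⁻¹ ∈ R := fun m hm r hr =>
    (Subgroup.mem_normalizer_iff.1 (hMR hm) r).1 hr
  set Z₁ : Subgroup M := (Subgroup.zpowers (-1 : SL2)).comap θ with hZ₁
  haveI : (Subgroup.zpowers (-1 : SL2)).Normal := ⟨fun x hx g => by
    obtain ⟨k, rfl⟩ := Subgroup.mem_zpowers_iff.1 hx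
    have hc : Commute g (-1 : SL2) := Subtype.ext (by simp)
    rw [(hc.zpow_right k).eq, mul_inv_cancel_right]
    exact Subgroup.zpow_mem_zpowers _ k⟩
  haveI hZn : Z₁.Normal := Subgroup.Normal.comap inferInstance θ
  obtain ⟨t₀, ht₀⟩ := hθ (-1 : SL2)
  obtain ⟨j, o, ho, hjo⟩ := Nat.exists_eq_pow_mul_and_not_dvd (orderOf_pos t₀).ne' 2 (by norm_num)
  have hodd : Odd o := Nat.odd_iff.2 (Nat.two_dvd_ne_zero.1 ho)
  have hnn : (-1 : SL2) ^ 2 = 1 := Subtype.ext (by simp)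
  set t := t₀ ^ o with ht
  have hθt : θ t = -1 := by
    obtain ⟨k, rfl⟩ := hodd
    rw [ht, map_pow, ht₀, pow_succ, pow_mul, hnn, one_pow, one_mul]
  haveI : Fact (Nat.Prime 2) := ⟨Nat.prime_two⟩
  have htZ : t ∈ Z₁ := by
    show θ t ∈ Subgroup.zpowers (-1 : SL2)
    rw [hθt]; exact Subgroup.mem_zpowers _
  have ht2 : IsPGroup 2 (Subgroup.zpowers (⟨t, htZ⟩ : Z₁)) := IsPGroup.of_card_dvd_pow (n := j) (by
    rw [Nat.card_zpowers]
    refine orderOf_dvd_of_pow_eq_one (Subtype.ext ?_)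
    show t ^ 2 ^ j = 1
    rw [ht, ← pow_mul, mul_comm, ← hjo, pow_orderOf_eq_one])
  obtain ⟨T, hT⟩ := ht2.exists_le_sylow
  set T' : Subgroup M := (T : Subgroup Z₁).map Z₁.subtype with hT'
  have htT : t ∈ T' := ⟨⟨t, htZ⟩, hT (Subgroup.mem_zpowers _), rfl⟩
  set N := Subgroup.normalizer (T' : Set M) with hN
  have hsup : N ⊔ Z₁ = ⊤ := Sylow.normalizer_sup_eq_top T
  have hNsurj : ∀ A : SL2, ∃ n ∈ N, θ n = A := by
    intro A
    obtain ⟨m, rfl⟩ := hθ A
    obtain ⟨n, hn, z, hz, rfl⟩ := Subgroup.mem_sup_of_normal_right.1 (hsup ▸ Subgroup.mem_top m)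
    obtain ⟨k, hk⟩ := Subgroup.mem_zpowers_iff.1 (show θ z ∈ Subgroup.zpowers (-1 : SL2) from hz)
    refine ⟨n * t ^ k, mul_mem hn (zpow_mem (Subgroup.le_normalizer htT) k), ?_⟩
    rw [map_mul, map_mul, map_zpow, hθt, hk]
  have hτ1 : τ 1 = 0 := by
    have h := hτmul 1 R.one_mem 1 R.one_mem
    rw [one_mul] at h
    exact left_eq_add.1 h
  have hinter : ∀ r ∈ R, ∀ h : r ∈ M, (⟨r, h⟩ : M) ∈ N → τ r = 0 := by
    intro r hr hrM hrN
    have h1 : (⟨r, hrM⟩ : M) * t * (⟨r, hrM⟩ : M)⁻¹ ∈ T' := (Subgroup.mem_normalizer_iff.1 hrN t).1 htT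
    have h2 := mul_mem h1 (inv_mem htT)
    obtain ⟨w, hw, hwe⟩ := h2
    obtain ⟨k, hk⟩ := T.isPGroup' ⟨w, hw⟩
    have hkG : (r * (t : G) * r⁻¹ * (t : G)⁻¹) ^ 2 ^ k = 1 := by
      have h := congrArg (fun x : Z₁ => ((x : M) : G)) (congrArg Subtype.val hk)
      simp only [SubmonoidClass.coe_pow, OneMemClass.coe_one] at h
      have e : ((w : M) : G) = r * (t : G) * r⁻¹ * (t : G)⁻¹ := congrArg Subtype.val hwe
      rwa [e] at h
    have hcR : r * (t : G) * r⁻¹ * (t : G)⁻¹ ∈ R := by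
      rw [mul_assoc, mul_assoc, ← mul_assoc (t : G)]
      exact mul_mem hr (hconj t t.2 _ (inv_mem hr))
    obtain ⟨i, hi⟩ := hR ⟨_, hcR⟩
    have hi' : (r * (t : G) * r⁻¹ * (t : G)⁻¹) ^ p ^ i = 1 := by
      simpa using congrArg Subtype.val hi
    have hone : r * (t : G) * r⁻¹ * (t : G)⁻¹ = 1 := by
      rw [← orderOf_eq_one_iff]
      exact Nat.eq_one_of_dvd_coprimes (Nat.Coprime.pow k i ((Nat.coprime_primes Nat.prime_two hp.out).2 hp2.symm))
        (orderOf_dvd_of_pow_eq_one hkG) (orderOf_dvd_of_pow_eq_one hi')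
    have hcomm : (t : G) * r * (t : G)⁻¹ = r := by
      have e : r * (t : G) = (t : G) * r := mul_inv_eq_iff_eq_mul.1 (mul_inv_eq_one.1 hone)
      rw [← e, mul_inv_cancel_right]
    have h3 := hτeq t r hr
    rw [hcomm, hθt] at h3
    have h4 : τ r = -τ r := by simpa [Matrix.neg_mulVec] using h3
    have h2' : (2 : ZMod p) ≠ 0 := by
      intro h0
      exact hp2 ((Nat.prime_dvd_prime_iff_eq hp.out Nat.prime_two).1
        ((ZMod.natCast_eq_zero_iff 2 p).1 (by exact_mod_cast h0)))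
    funext a
    have h5 : (2 : ZMod p) * τ r a = 0 := by
      rw [two_mul]
      nth_rewrite 1 [h4]
      simp
    exact (mul_eq_zero.1 h5).resolve_left h2'
  -- the subgroup `R N`
  set N' : Subgroup G := N.map M.subtype with hN'
  set K := R ⊔ N' with hK
  have hN'M : N' ≤ M := Subgroup.map_subtype_le _
  have hKM : K ≤ M := sup_le hRM hN'M
  have hdec : ∀ x : K, ∃ r ∈ R, ∃ n : M, n ∈ N ∧ r * (n : G) = x := by
    intro x
    have hx : (x : G) ∈ ((R ⊔ N' : Subgroup G) : Set G) := x.2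
    rw [Subgroup.coe_mul_of_right_le_normalizer_left R N' (hN'M.trans hMR)] at hx
    obtain ⟨a, ha, b, hb, hab⟩ := hx
    obtain ⟨n, hn, rfl⟩ := hb
    exact ⟨a, ha, n, hn, hab⟩
  choose rr hrr nn hnn hrn using hdec
  have huniq : ∀ (x : K) (r : G) (_ : r ∈ R) (n : M), n ∈ N → r * (n : G) = x →
      τ (rr x) = τ r ∧ θ (nn x) = θ n := by
    intro x r hr n hn he
    have h1 : r⁻¹ * rr x = (n : G) * (nn x : G)⁻¹ := by
      rw [eq_mul_inv_iff_mul_eq, mul_assoc, hrn, ← he, inv_mul_cancel_left]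
    have h2 : r⁻¹ * rr x ∈ R := mul_mem (inv_mem hr) (hrr x)
    have h3 : r⁻¹ * rr x ∈ M := hRM h2
    have h4 : (⟨r⁻¹ * rr x, h3⟩ : M) = n * (nn x)⁻¹ := Subtype.ext h1
    have h5 := hinter _ h2 h3 (by rw [h4]; exact mul_mem hn (inv_mem (hnn x)))
    refine ⟨?_, ?_⟩
    · have h6 := hτmul r hr _ h2
      rwa [mul_inv_cancel_left, h5, add_zero] at h6
    · have h6 := hθR _ h2 h3
      rw [h4, map_mul, map_inv, mul_inv_eq_one] at h6
      exact h6.symm
  let f : K → ↥(Cfsg.qdOver (ZMod p)) := fun x => mk (θ (nn x)) (τ (rr x))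
  have hfeq : ∀ (x : K) (r : G) (_ : r ∈ R) (n : M), n ∈ N → r * (n : G) = x → f x = mk (θ n) (τ r) := by
    intro x r hr n hn he
    obtain ⟨a, b⟩ := huniq x r hr n hn he
    show mk (θ (nn x)) (τ (rr x)) = _
    rw [a, b]
  have hmul : ∀ x y : K, f (x * y) = f x * f y := by
    intro x y
    have hr' : (nn x : G) * rr y * (nn x : G)⁻¹ ∈ R := hconj _ (nn x).2 _ (hrr y)
    rw [hfeq (x * y) _ (mul_mem (hrr x) hr') (nn x * nn y) (mul_mem (hnn x) (hnn y)) (by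
      rw [Subgroup.coe_mul, Subgroup.coe_mul, ← hrn x, ← hrn y]; group)]
    refine ext' ?_ ?_
    · rw [π_mk, map_mul, map_mul, π_mk, π_mk]
    · rw [tr_mk, tr_mul, π_mk, tr_mk, tr_mk, hτmul _ (hrr x) _ hr', hτeq (nn x) _ (hrr y), add_comm]
  refine ⟨K, hKM, MonoidHom.mk' f hmul, fun g => ?_⟩
  obtain ⟨n, hn, hθn⟩ := hNsurj (π g)
  obtain ⟨r, hr, hτr⟩ := hτsurj (tr g)
  refine ⟨⟨r * (n : G), Subgroup.mul_mem_sup hr ⟨n, hn, rfl⟩⟩, ?_⟩
  show f _ = g
  rw [hfeq _ r hr n hn rfl]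
  exact ext' ((π_mk _ _).trans hθn) ((tr_mk _ _).trans hτr)

/-- If `G` involves `Qd(p)`, so does the normalizer of a `p`-centric subgroup. -/
theorem exists_centric_normalizer (hp2 : p ≠ 2) (h : Cfsg.Involves ↥(Cfsg.qd p) G) :
    ∃ Q : Subgroup G, IsPGroup p Q ∧
      (∀ x ∈ Subgroup.centralizer (Q : Set G), IsPGroup p (Subgroup.zpowers x) → x ∈ Q) ∧
      ∃ K : Subgroup G, K ≤ Subgroup.normalizer (Q : Set G) ∧
        ∃ f : K →* ↥(Cfsg.qd p), Function.Surjective f := by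
  obtain ⟨H, ψ, hψ⟩ := Cfsg.Agent.LEInvolve.exists_hom_of_involves
    (show Cfsg.Involves ↥(Cfsg.qdOver (ZMod p)) G from h)
  set φ : H →* SL2 := π.comp ψ with hφ
  have hφs : Function.Surjective φ := π_surjective.comp hψ
  obtain ⟨P₀⟩ : Nonempty (Sylow p φ.ker) := inferInstance
  set P₁ : Subgroup H := (P₀ : Subgroup φ.ker).map φ.ker.subtype with hP₁
  have hP₁k : P₁ ≤ φ.ker := Subgroup.map_subtype_le _
  have hP₁p : IsPGroup p P₁ := P₀.isPGroup'.map _
  set R : Subgroup G := P₁.map H.subtype with hRdef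
  have hRp : IsPGroup p R := hP₁p.map _
  classical
  let τ : G → Fin 2 → ZMod p := fun x => if hx : x ∈ H then tr (ψ ⟨x, hx⟩) else 0
  have hτH : ∀ x : H, τ (x : G) = tr (ψ x) := fun x => dif_pos x.2
  have hπP : ∀ x ∈ P₁, π (ψ x) = 1 := fun x hx => MonoidHom.mem_ker.1 (hP₁k hx)
  have hτmul : ∀ r ∈ R, ∀ r' ∈ R, τ (r * r') = τ r + τ r' := by
    rintro _ ⟨a, ha, rfl⟩ _ ⟨b, hb, rfl⟩
    rw [← map_mul, Subgroup.subtype_apply, Subgroup.subtype_apply, Subgroup.subtype_apply, hτH, hτH, hτH,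
      map_mul, tr_mul, hπP a ha, Matrix.SpecialLinearGroup.coe_one, Matrix.one_mulVec, add_comm]
  -- the translations come from the Sylow subgroup of the kernel
  let ψk : φ.ker →* (π (F := ZMod p)).ker :=
    (ψ.comp φ.ker.subtype).codRestrict _ fun x => MonoidHom.mem_ker.2 (MonoidHom.mem_ker.1 x.2)
  have hψk : Function.Surjective ψk := by
    rintro ⟨v, hv⟩
    obtain ⟨x, rfl⟩ := hψ v
    exact ⟨⟨x, hv⟩, rfl⟩
  have hP₀ : (P₀ : Subgroup φ.ker).map ψk = ⊤ :=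
    (P₀.mapSurjective hψk).3 ((isPGroup_ker (F := ZMod p)).to_subgroup ⊤) le_top |>.symm
  have hP₁ψ : ∀ v, ∃ x ∈ P₁, π (ψ x) = 1 ∧ tr (ψ x) = v := by
    intro v
    obtain ⟨x, hx, hxv⟩ := hP₀.ge (Subgroup.mem_top (⟨mk 1 v, MonoidHom.mem_ker.2 (π_mk 1 v)⟩ :
      (π (F := ZMod p)).ker))
    refine ⟨_, ⟨x, hx, rfl⟩, hπP _ ⟨x, hx, rfl⟩, ?_⟩
    show tr ((ψk x : ↥(Cfsg.qdOver (ZMod p)))) = v
    rw [hxv]; exact tr_mk 1 v
  have hτsurj : ∀ v, ∃ r ∈ R, τ r = v := fun v => by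
    obtain ⟨x, hx, -, hxv⟩ := hP₁ψ v
    exact ⟨_, ⟨x, hx, rfl⟩, (hτH x).trans hxv⟩
  -- the normalizer in `H` covers the quotient
  set H₁ := Subgroup.normalizer (P₁ : Set H) with hH₁
  have hsup : H₁ ⊔ φ.ker = ⊤ := Sylow.normalizer_sup_eq_top P₀
  have hH₁s : ∀ A : SL2, ∃ x ∈ H₁, φ x = A := by
    intro A
    obtain ⟨x, rfl⟩ := hφs A
    obtain ⟨a, ha, b, hb, rfl⟩ := Subgroup.mem_sup_of_normal_right.1 (hsup ▸ Subgroup.mem_top x)
    exact ⟨a, ha, by rw [map_mul, MonoidHom.mem_ker.1 hb, mul_one]⟩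
  set C := Subgroup.centralizer (R : Set G) with hC
  set W := R ⊔ C with hW
  have hCN : C ≤ Subgroup.normalizer (R : Set G) := Subgroup.centralizer_le_normalizer _
  have hH₁N : H₁.map H.subtype ≤ Subgroup.normalizer (R : Set G) := Subgroup.le_normalizer_map H.subtype
  have hWN : W ≤ Subgroup.normalizer (R : Set G) := sup_le Subgroup.le_normalizer hCN
  set L := H₁.map H.subtype ⊔ W with hL
  have hLN : L ≤ Subgroup.normalizer (R : Set G) := sup_le hH₁N hWN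
  have hLW : L ≤ Subgroup.normalizer (W : Set G) := by
    intro g hg
    refine Subgroup.mem_normalizer_iff.2 fun x => ?_
    have key : ∀ g ∈ Subgroup.normalizer (R : Set G), ∀ x ∈ W, g * x * g⁻¹ ∈ W := by
      intro g hg x hx
      have hmap : W.map (MulAut.conj g).toMonoidHom ≤ W := by
        rw [hW, Subgroup.map_sup, sup_le_iff]
        refine ⟨?_, ?_⟩
        · rintro _ ⟨r, hr, rfl⟩
          exact Subgroup.mem_sup_left ((Subgroup.mem_normalizer_iff.1 hg r).1 hr)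
        · rintro _ ⟨c, hc, rfl⟩
          refine Subgroup.mem_sup_right (Subgroup.mem_centralizer_iff.2 fun r hr => ?_)
          have h' := Subgroup.mem_centralizer_iff.1 hc (g⁻¹ * r * g)
            (by simpa using (Subgroup.mem_normalizer_iff.1 (inv_mem hg) r).1 hr)
          show r * (g * c * g⁻¹) = g * c * g⁻¹ * r
          calc r * (g * c * g⁻¹) = g * (g⁻¹ * r * g * c) * g⁻¹ := by group
            _ = g * (c * (g⁻¹ * r * g)) * g⁻¹ := by rw [h']
            _ = g * c * g⁻¹ * r := by group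
      exact hmap ⟨x, hx, rfl⟩
    exact ⟨key g (hLN hg) x, fun hx => by simpa [mul_assoc] using key _ (inv_mem (hLN hg)) _ hx⟩
  haveI : (W.subgroupOf L).Normal := Subgroup.normal_subgroupOf_iff_le_normalizer le_sup_right |>.2 hLW
  -- a Sylow subgroup of `W`
  obtain ⟨Q₀⟩ : Nonempty (Sylow p (W.subgroupOf L)) := inferInstance
  set Q₁ : Subgroup L := (Q₀ : Subgroup (W.subgroupOf L)).map (W.subgroupOf L).subtype with hQ₁
  set Q : Subgroup G := Q₁.map L.subtype with hQ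
  have hQp : IsPGroup p Q := (Q₀.isPGroup'.map _).map _
  have hmax : ∀ (X : Subgroup G), IsPGroup p X → X ≤ W → Q ≤ X → X = Q := by
    intro X hX hXW hQX
    have hXL : X ≤ L := hXW.trans le_sup_right
    have h1 : (Q₀ : Subgroup (W.subgroupOf L)) = (X.subgroupOf L).subgroupOf (W.subgroupOf L) := by
      refine (Q₀.3 ?_ fun x hx => hQX ⟨_, ⟨x, hx, rfl⟩, rfl⟩).symm
      exact (hX.comap_of_injective L.subtype L.subtype_injective).comap_of_injective _
        (W.subgroupOf L).subtype_injective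
    refine le_antisymm (fun x hx => ?_) hQX
    exact ⟨⟨x, hXL hx⟩, ⟨⟨⟨x, hXL hx⟩, hXW hx⟩, h1 ▸ hx, rfl⟩, rfl⟩
  have hQW : Q ≤ W := by
    rintro _ ⟨_, ⟨x, -, rfl⟩, rfl⟩
    exact x.2
  have hQL : Q ≤ L := hQW.trans le_sup_right
  have hRQ : R ≤ Q := by
    have hp' : IsPGroup p ↥(R ⊔ Q) :=
      hRp.to_sup_of_normal_left' hQp (hQW.trans hWN)
    exact le_sup_left.trans (hmax _ hp' (sup_le le_sup_left hQW) le_sup_right).le
  refine ⟨Q, hQp, fun x hx hxp => ?_, ?_⟩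
  · have hxC : x ∈ C := Subgroup.centralizer_le hRQ hx
    have hp' : IsPGroup p ↥(Subgroup.zpowers x ⊔ Q) :=
      hxp.to_sup_of_normal_right' hQp ((Subgroup.zpowers_le.2 hx).trans (Subgroup.centralizer_le_normalizer _))
    exact (hmax _ hp' (sup_le (Subgroup.zpowers_le.2 (Subgroup.mem_sup_right hxC)) hQW) le_sup_right).le
      (Subgroup.mem_sup_left (Subgroup.mem_zpowers x))
  have hτ1 : τ 1 = 0 := by
    have h := hτmul 1 R.one_mem 1 R.one_mem
    rw [one_mul] at h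
    exact left_eq_add.1 h
  have hWfix : ∀ x ∈ W, ∀ r ∈ R, τ (x * r * x⁻¹) = τ r := by
    intro x hx r hr
    obtain ⟨a, ha, c, hc, rfl⟩ : ∃ a ∈ R, ∃ c ∈ C, a * c = x := by
      have hx' : x ∈ ((R ⊔ C : Subgroup G) : Set G) := hx
      rw [Subgroup.coe_mul_of_right_le_normalizer_left R C hCN] at hx'
      obtain ⟨a, ha, c, hc, he⟩ := hx'
      exact ⟨a, ha, c, hc, he⟩
    have h0 := hτmul a ha a⁻¹ (inv_mem ha)
    rw [mul_inv_cancel, hτ1] at h0
    rw [mul_inv_rev, show a * c * r * (c⁻¹ * a⁻¹) = a * (c * r * c⁻¹) * a⁻¹ by group,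
      ← Subgroup.mem_centralizer_iff.1 hc r hr, mul_inv_cancel_right,
      hτmul _ (mul_mem ha hr) _ (inv_mem ha), hτmul _ ha _ hr, add_right_comm, ← h0, zero_add]
  -- the action of `L` on `R` through `SL₂`
  have hex : ∀ m ∈ L, ∃ A : SL2, ∀ r ∈ R, τ (m * r * m⁻¹) = (A : M2) *ᵥ τ r := by
    intro m hm
    rw [hL, hW, Subgroup.sup_eq_closure, Subgroup.sup_eq_closure] at hm
    have hN' : ∀ y ∈ Subgroup.closure ((H₁.map H.subtype : Set G) ∪
        (Subgroup.closure ((R : Set G) ∪ C) : Set G)), y ∈ Subgroup.normalizer (R : Set G) := by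
      intro y hy
      rw [← Subgroup.sup_eq_closure, ← Subgroup.sup_eq_closure] at hy
      exact hLN hy
    induction hm using Subgroup.closure_induction with
    | mem y hy =>
      rcases hy with ⟨a, ha, rfl⟩ | hy
      · refine ⟨φ a, ?_⟩
        rintro _ ⟨b, hb, rfl⟩
        rw [Subgroup.subtype_apply, Subgroup.subtype_apply, ← Subgroup.coe_inv, ← Subgroup.coe_mul,
          ← Subgroup.coe_mul, hτH, hτH, map_mul, map_mul, map_inv, tr_conj _ _ (hπP b hb)]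
        rfl
      · change y ∈ Subgroup.closure ((R : Set G) ∪ C) at hy
        rw [← Subgroup.sup_eq_closure] at hy
        exact ⟨1, fun r hr => by rw [Matrix.SpecialLinearGroup.coe_one, Matrix.one_mulVec]; exact hWfix y hy r hr⟩
    | one => exact ⟨1, by simp⟩
    | mul a b ha hb iha ihb =>
      obtain ⟨A, hA⟩ := iha
      obtain ⟨B, hB⟩ := ihb
      refine ⟨A * B, fun r hr => ?_⟩
      rw [mul_inv_rev, show a * b * r * (b⁻¹ * a⁻¹) = a * (b * r * b⁻¹) * a⁻¹ by group,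
        hA _ ((Subgroup.mem_normalizer_iff.1 (hN' b hb) r).1 hr), hB r hr, Matrix.SpecialLinearGroup.coe_mul,
        Matrix.mulVec_mulVec]
    | inv a ha iha =>
      obtain ⟨A, hA⟩ := iha
      refine ⟨A⁻¹, fun r hr => ?_⟩
      have har : a⁻¹ * r * a⁻¹⁻¹ ∈ R := (Subgroup.mem_normalizer_iff.1 (inv_mem (hN' a ha)) r).1 hr
      have h := hA _ har
      rw [show a * (a⁻¹ * r * a⁻¹⁻¹) * a⁻¹ = r by group] at h
      rw [h, Matrix.mulVec_mulVec, ← Matrix.SpecialLinearGroup.coe_mul, inv_mul_cancel,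
        Matrix.SpecialLinearGroup.coe_one, Matrix.one_mulVec]
  have huniq : ∀ A B : SL2, (∀ r ∈ R, (A : M2) *ᵥ τ r = (B : M2) *ᵥ τ r) → A = B := by
    intro A B hAB
    refine Subtype.ext (Matrix.ext_of_mulVec_single fun i => ?_)
    obtain ⟨r, hr, hrv⟩ := hτsurj (Pi.single i 1)
    have := hAB r hr
    rwa [hrv] at this
  choose θ₀ hθ₀ using fun m : L => hex m m.2
  have hconj : ∀ m : L, ∀ r ∈ R, (m : G) * r * (m : G)⁻¹ ∈ R := fun m r hr =>
    (Subgroup.mem_normalizer_iff.1 (hLN m.2) r).1 hr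
  have hθmul : ∀ a b : L, θ₀ (a * b) = θ₀ a * θ₀ b := fun a b => huniq _ _ fun r hr => by
    rw [← hθ₀ _ r hr, Subgroup.coe_mul, mul_inv_rev,
      show (a : G) * b * r * ((b : G)⁻¹ * (a : G)⁻¹) = a * (b * r * (b : G)⁻¹) * (a : G)⁻¹ by group,
      hθ₀ a _ (hconj b r hr), hθ₀ b r hr, Matrix.SpecialLinearGroup.coe_mul, Matrix.mulVec_mulVec]
  set M := (Subgroup.normalizer (Q₁ : Set L)).map L.subtype with hM
  have hML : M ≤ L := Subgroup.map_subtype_le _
  set θ : M →* SL2 := (MonoidHom.mk' θ₀ hθmul).comp (Subgroup.inclusion hML) with hθ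
  have hθW : ∀ w : L, (w : G) ∈ W → θ₀ w = 1 := fun w hw => huniq _ _ fun r hr => by
    rw [← hθ₀ _ r hr, Matrix.SpecialLinearGroup.coe_one, Matrix.one_mulVec]
    exact hWfix _ hw r hr
  have hcov : Subgroup.normalizer (Q₁ : Set L) ⊔ W.subgroupOf L = ⊤ := Sylow.normalizer_sup_eq_top Q₀
  have hθsurj : Function.Surjective θ := by
    intro A
    obtain ⟨a, ha, rfl⟩ := hH₁s A
    set l : L := ⟨(a : G), Subgroup.mem_sup_left ⟨a, ha, rfl⟩⟩ with hl
    obtain ⟨n, hn, w, hw, hnw⟩ := Subgroup.mem_sup_of_normal_right.1 (hcov ▸ Subgroup.mem_top l)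
    refine ⟨⟨(n : G), n, hn, rfl⟩, ?_⟩
    show θ₀ n = φ a
    have h1 : θ₀ l = φ a := huniq _ _ fun r hr => by
      rw [← hθ₀ _ r hr]
      obtain ⟨b, hb, rfl⟩ := hr
      show τ ((a : G) * (b : G) * (a : G)⁻¹) = _ *ᵥ τ (b : G)
      rw [← Subgroup.coe_inv, ← Subgroup.coe_mul, ← Subgroup.coe_mul, hτH, hτH,
        map_mul, map_mul, map_inv, tr_conj _ _ (hπP b hb)]
      rfl
    rw [← h1, ← hnw, hθmul, hθW w hw, mul_one]
  have hQM : Q ≤ M := by
    rintro _ ⟨x, hx, rfl⟩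
    exact ⟨x, Subgroup.le_normalizer hx, rfl⟩
  have hMQ : M ≤ Subgroup.normalizer (Q : Set G) := Subgroup.le_normalizer_map L.subtype
  obtain ⟨K, hKM, f, hf⟩ := exists_hom_qd hp2 R M hRp (hRQ.trans hQM) (hML.trans hLN) θ hθsurj
    (fun r hr hrM => hθW ⟨r, hML hrM⟩ (Subgroup.mem_sup_left hr)) τ hτsurj hτmul
    (fun m r hr => hθ₀ (Subgroup.inclusion hML m) r hr)
  exact ⟨K, hKM.trans hMQ, f, hf⟩

omit [Finite G] in
/-- `Qd(p)` has no nontrivial normal subgroup of order prime to `p`. -/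
theorem eq_one_of_normal_coprime (D : Subgroup ↥(Cfsg.qdOver (ZMod p))) (hD : D.Normal) (hcop : (Nat.card D).Coprime p)
    {x : ↥(Cfsg.qdOver (ZMod p))} (hx : x ∈ D) : x = 1 := by
  -- `x` commutes with every translation
  have hcomm : ∀ v, (π (F := ZMod p) x : M2) *ᵥ v = v := by
    intro v
    set z : ↥(Cfsg.qdOver (ZMod p)) := mk 1 v with hz
    have hz1 : π z = 1 := π_mk 1 v
    have h1 : x * z * x⁻¹ * z⁻¹ ∈ D := by
      rw [mul_assoc, mul_assoc, ← mul_assoc z]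
      exact mul_mem hx (hD.conj_mem _ (inv_mem hx) z)
    have h2 : π (x * z * x⁻¹ * z⁻¹) = 1 := by
      simp [hz1]
    obtain ⟨k, hk⟩ := isPGroup_ker (F := ZMod p) (p := p) ⟨_, MonoidHom.mem_ker.2 h2⟩
    have hk' : (x * z * x⁻¹ * z⁻¹) ^ p ^ k = 1 := congrArg Subtype.val hk
    have hone : x * z * x⁻¹ * z⁻¹ = 1 := by
      rw [← orderOf_eq_one_iff]
      exact Nat.eq_one_of_dvd_coprimes (hcop.pow_right k) (D.orderOf_dvd_natCard h1)
        (orderOf_dvd_of_pow_eq_one hk')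
    have h3 := tr_conj x z hz1
    rw [mul_inv_eq_one.1 hone, hz, tr_mk] at h3
    exact h3.symm
  have hπ : π (F := ZMod p) x = 1 := by
    refine Subtype.ext (Matrix.ext_of_mulVec_single fun i => ?_)
    rw [hcomm, Matrix.SpecialLinearGroup.coe_one, Matrix.one_mulVec]
  obtain ⟨k, hk⟩ := isPGroup_ker (F := ZMod p) (p := p) ⟨x, MonoidHom.mem_ker.2 hπ⟩
  rw [← orderOf_eq_one_iff]
  exact Nat.eq_one_of_dvd_coprimes (hcop.pow_right k) (D.orderOf_dvd_natCard hx)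
    (orderOf_dvd_of_pow_eq_one (congrArg Subtype.val hk))

omit [Finite G] in
/-- A kernel of order prime to `p` does not meet a section `Qd(p)`. -/
theorem involves_of_coprime_kernel' {K M L : Type*} [Group K] [Group M] [Finite M] [Group L]
    (a : K →* M) (ha : Function.Injective a) (Φ : M →* L) (hker : (Nat.card Φ.ker).Coprime p)
    (f : K →* ↥(Cfsg.qdOver (ZMod p))) (hf : Function.Surjective f) : Cfsg.Involves ↥(Cfsg.qdOver (ZMod p)) L := by
  refine Cfsg.Agent.LEInvolve.involves_of_hom (Φ.comp a) f hf fun x hx => ?_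
  have hle : Nat.card (Φ.comp a).ker ∣ Nat.card Φ.ker := by
    refine Subgroup.card_dvd_of_injective ((a.comp (Φ.comp a).ker.subtype).codRestrict Φ.ker fun y => y.2) ?_
    intro u v huv
    exact Subtype.ext (ha (congrArg Subtype.val huv))
  have hn : ((Φ.comp a).ker.map f).Normal := Subgroup.Normal.map inferInstance f hf
  exact eq_one_of_normal_coprime ((Φ.comp a).ker.map f) hn
    (Nat.Coprime.coprime_dvd_left ((Subgroup.card_map_dvd _ f).trans hle) hker) ⟨x, hx, rfl⟩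
omit [Finite G] in
theorem involves_of_coprime_kernel {K M L : Type*} [Group K] [Group M] [Finite M] [Group L]
    (a : K →* M) (ha : Function.Injective a) (Φ : M →* L) (hker : (Nat.card Φ.ker).Coprime p)
    (f : K →* ↥(Cfsg.qd p)) (hf : Function.Surjective f) : Cfsg.Involves ↥(Cfsg.qd p) L :=
  involves_of_coprime_kernel' a ha Φ hker f hf

end Cfsg.Agent.QdLocal
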